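import Cfsg.Agent.H822.Cls.SplitBasic

/-!
# The linear theorem from its primitive (faithful) and imprimitive steps
-/

set_option autoImplicit false

namespace Cfsg.Agent.H822.Cls

open scoped Pointwise commutatorElement

universe u

/-- the faithful primitive case -/
def PrimStep : Prop :=
  ∀ (L U : Type u) [Group L] [Finite L] [Group.IsSolvable L] [AddCommGroup U] [Finite U] [Nontrivial U]
    [DistribMulAction L U] (M H : Subgroup L) (r n : ℕ), Split M H → r.Prime →
    (∀ u : U, r • u = 0) → ¬ r ∣ Nat.card H → Irr L U → (∀ q : ℕ, q.Prime → q ∣ Nat.card M → q ∣ n) → r ∣ n →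
    (∀ g : L, (∀ u : U, g • u = u) → g = 1) → ¬ Imprim L U → Concl M H U n

/-- the imprimitive case -/
def ImprimStep : Prop :=
  ∀ (L U : Type u) [Group L] [Finite L] [Group.IsSolvable L] [AddCommGroup U] [Finite U] [Nontrivial U]
    [DistribMulAction L U] (M H : Subgroup L) (r n : ℕ), Split M H → r.Prime →
    (∀ u : U, r • u = 0) → ¬ r ∣ Nat.card H → Irr L U → (∀ q : ℕ, q.Prime → q ∣ Nat.card M → q ∣ n) → r ∣ n →
    LinearStmt.{u} (Nat.card U) → Imprim L U → Concl M H U n

section Range

variable {L U : Type u} [Group L] [AddCommGroup U] [DistribMulAction L U]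

/-- the acting group -/
abbrev rng (L U : Type u) [Group L] [AddCommGroup U] [DistribMulAction L U] : Subgroup (Equiv.Perm U) :=
  (MulAction.toPermHom L U).range

/-- the projection to the acting group -/
abbrev pr (L U : Type u) [Group L] [AddCommGroup U] [DistribMulAction L U] : L →* rng L U :=
  (MulAction.toPermHom L U).rangeRestrict

theorem pr_surjective : Function.Surjective (pr L U) := (MulAction.toPermHom L U).rangeRestrict_surjective

theorem pr_smul' (g : L) (u : U) : pr L U g • u = g • u := rfl

/-- the action of the acting group -/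
instance rngAct : DistribMulAction (rng L U) U where
  smul_zero := by
    intro g
    obtain ⟨x, rfl⟩ := pr_surjective g
    rw [pr_smul', smul_zero]
  smul_add := by
    intro g u v
    obtain ⟨x, rfl⟩ := pr_surjective g
    rw [pr_smul', pr_smul', pr_smul', smul_add]

theorem pr_smul (g : L) (u : U) : pr L U g • u = g • u := rfl

theorem toAddAut_comp : (DistribMulAction.toAddAut (rng L U) U).comp (pr L U) = DistribMulAction.toAddAut L U :=
  rfl

theorem split_range {M H : Subgroup L} (hS : Split M H) : Split (M.map (pr L U)) (H.map (pr L U)) := by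
  have := hS.normal
  refine ⟨this.map _ pr_surjective, ?_, ?_, ?_⟩
  · rintro _ ⟨a, ha, rfl⟩ _ ⟨b, hb, rfl⟩
    rw [← map_mul, hS.comm a ha b hb, map_mul]
  · exact Nat.Coprime.coprime_dvd_left (Subgroup.card_map_dvd _ _)
      (Nat.Coprime.coprime_dvd_right (Subgroup.card_map_dvd _ _) hS.cop)
  · rw [← Subgroup.map_sup, hS.compl, ← MonoidHom.range_eq_map, MonoidHom.range_eq_top]
    exact pr_surjective

theorem stabilizer_index (u : U) :
    (MulAction.stabilizer (rng L U) u).index = (MulAction.stabilizer L u).index := by
  have h : MulAction.stabilizer L u = (MulAction.stabilizer (rng L U) u).comap (pr L U) := by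
    ext g
    rw [MulAction.mem_stabilizer_iff, Subgroup.mem_comap, MulAction.mem_stabilizer_iff, pr_smul]
  rw [h, Subgroup.index_comap_of_surjective _ pr_surjective]

variable [Finite L]

theorem Concl.of_range {M H : Subgroup L} (hS : Split M H) {n : ℕ}
    (h : Concl (M.map (pr L U)) (H.map (pr L U)) U n) : Concl M H U n := by
  obtain ⟨u, hu, hc⟩ := h
  refine ⟨u, hu, fun p hp hpH hgood P hnil => ?_⟩
  have : Fact p.Prime := ⟨hp⟩
  have hfin : Finite (rng L U) := Finite.of_surjective _ pr_surjective
  have hSr := split_range (U := U) hS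
  let P' : Sylow p (rng L U) := P.mapSurjective pr_surjective
  have hP' : (P' : Subgroup (rng L U)) = (P : Subgroup L).map (pr L U) := rfl
  have e1 : (⁅M.map (pr L U), (P' : Subgroup (rng L U))⁆ : Subgroup (rng L U)).map
      (DistribMulAction.toAddAut (rng L U) U) = (⁅M, (P : Subgroup L)⁆).map (DistribMulAction.toAddAut L U) := by
    rw [hP', ← Subgroup.map_commutator, Subgroup.map_map, toAddAut_comp]
  have hpH' : p ∣ Nat.card (H.map (pr L U)) := by
    by_contra hcon
    have hK : ¬ p ∣ Nat.card (M.map (pr L U)) := by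
      intro h1
      exact hp.one_lt.ne' (Nat.eq_one_of_dvd_coprimes hS.cop (h1.trans (Subgroup.card_map_dvd _ _)) hpH)
    have h2 : ¬ p ∣ Nat.card (rng L U) := by
      rw [hSr.card, hp.dvd_mul, not_or]
      exact ⟨hK, hcon⟩
    have h3 : (P' : Subgroup (rng L U)) = ⊥ := by
      rw [← Subgroup.card_eq_one, P'.card_eq_multiplicity,
        Nat.factorization_eq_zero_of_not_dvd h2, pow_zero]
    apply hnil
    rw [← e1, h3, Subgroup.commutator_bot_right, Subgroup.map_bot]
    infer_instance
  have := hc p hp hpH' hgood P' (by rw [e1]; exact hnil)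
  rwa [stabilizer_index] at this

end Range

/-- The linear theorem. -/
theorem linear (h1 : PrimStep.{u}) (h2 : ImprimStep.{u}) (N : ℕ) : LinearStmt.{u} N := by
  induction N with
  | zero =>
    intro L U _ _ _ _ _ _ _ M H r n hN
    omega
  | succ N ih =>
    intro L U _ _ _ _ _ _ _ M H r n hN hS hr hrU hrH hirr hM hrn
    have ih' : LinearStmt.{u} (Nat.card U) := by
      intro L' U' _ _ _ _ _ _ _ M' H' r' n' hN'
      exact ih L' U' M' H' r' n' (by omega)
    by_cases hI : Imprim L U
    · exact h2 L U M H r n hS hr hrU hrH hirr hM hrn ih' hI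
    · refine Concl.of_range hS ?_
      have hfin : Finite (rng L U) := Finite.of_surjective _ pr_surjective
      have hsol : Group.IsSolvable (rng L U) := Group.isSolvable_of_surjective pr_surjective
      refine h1 (rng L U) U _ _ r n (split_range hS) hr hrU ?_ ?_ ?_ hrn ?_ ?_
      · exact fun h => hrH (h.trans (Subgroup.card_map_dvd _ _))
      · intro W hW
        exact hirr W fun g w hw => hW (pr L U g) w hw
      · exact fun q hq hqM => hM q hq (hqM.trans (Subgroup.card_map_dvd _ _))
      · intro g hg
        apply Subtype.ext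
        apply Equiv.ext
        intro u
        exact hg u
      · rintro ⟨𝒟, ha, hb, hc, hd, he⟩
        exact hI ⟨𝒟, ha, hb, hc, fun g D hD => hd (pr L U g) D hD, he⟩

end Cfsg.Agent.H822.Cls
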