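import Cfsg.Agent.H822.Cls.PrimMain
import Cfsg.Agent.H24.Cls.FieldPart
import Cfsg.Agent.H24.Cls.SocPart
import Cfsg.Agent.H308.ClsFix
import Cfsg.Agent.H308.ClsSet
import Cfsg.Agent.H184.ClsNum
import Cfsg.Agent.H158.Cls7
import Cfsg.Agent.H463.Cls.Two

/-!
# Plugging the parts of S4148 together: the solvable part
-/

set_option autoImplicit false

namespace Cfsg.Agent.H822.Cls

open scoped Pointwise commutatorElement

universe u

theorem existsPrim : ExistsPrim.{u} := by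
  classical
  intro L U _ _ _ _ _ _ _ r hr hrU hfaith hirr hI
  -- a maximal abelian normal subgroup
  obtain ⟨A, ⟨hA1, hA2⟩, hmax⟩ := (Set.toFinite {A : Subgroup L | A.Normal ∧ IsMulCommutative A}).exists_maximal
    ⟨⊥, inferInstance, inferInstance⟩
  obtain ⟨F, hF1, hF2, hF3, σ, ι, h1, h2, h3, h4⟩ :=
    H24.Cls.exists_field hr hrU hfaith hirr hI A hA1 hA2
  have hmax' : ∀ B : Subgroup L, B.Normal → IsMulCommutative B → A ≤ B → B = A := fun B hB1 hB2 hB3 =>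
    le_antisymm (hmax ⟨hB1, hB2⟩ hB3) hB3
  obtain ⟨S, s1, s2, s3, s4, s5, s6, s7, s8⟩ := H24.Cls.exists_S A hA1 hA2 hmax' ι h3
  exact ⟨F, hF1, hF2, hF3, ⟨⟨σ, h1, A, S, hA1, s1, s2, s3, ι, h2, h3, h4, s4, s5, s6, s7, s8⟩⟩⟩

theorem fixedSq : FixedSq.{u} := by
  intro L U F _ _ _ _ _ _ _ _ D g h1 h2 h3 h4
  exact H308.ClsFix.Prim.card_fixed_sq D g h1 h2 h3 h4

theorem fixedPow : FixedPow.{u} := by
  intro L U F _ _ _ _ _ _ _ _ D p hp g h1 h2
  exact H308.ClsFix.Prim.card_fixed_pow D hp g h1 h2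

theorem numeric : Numeric := by
  intro Q I m f p h1 h2 h3 h4 h5 h6 h7 h8 h9 h10 h11 h12 h13
  exact H184.ClsNum.numeric Q I m f p h1 h2 h3 h4 h5 h6 h7 h8 h9 h10 h11 h12 h13

theorem imprimStep : ImprimStep.{u} := by
  intro L U _ _ _ _ _ _ _ M H r n h1 h2 h3 h4 h5 h6 h7 IH hI
  exact H158.Cls7.imprim_step H308.ClsSet.setLemma M H r n h1 h2 h3 h4 h5 h6 h7 IH hI

theorem twoObjects (hNum : ExistsNum.{u}) (hNot : NotMem.{u}) (hRel : RelIndexLe.{u}) (hDim : DimBound.{u}) :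
    TwoObjects.{u} :=
  H463.Cls.two_objects (linear (primStep existsPrim hNum fixedSq fixedPow numeric hNot hRel hDim) imprimStep)

end Cfsg.Agent.H822.Cls
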