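import Cfsg.Agent.H822.Cls.Count

/-!
# Basic facts on `Split K H`
-/

set_option autoImplicit false

namespace Cfsg.Agent.H822.Cls

open scoped Pointwise commutatorElement

universe u

variable {G : Type u} [Group G]

theorem Split.inf_eq_bot {K H : Subgroup G} (hS : Split K H) : K ⊓ H = ⊥ := by
  rw [eq_bot_iff]
  intro x hx
  obtain ⟨h1, h2⟩ := Subgroup.mem_inf.1 hx
  rw [Subgroup.mem_bot, ← orderOf_eq_one_iff]
  have a := Subgroup.orderOf_dvd_natCard K h1
  have b := Subgroup.orderOf_dvd_natCard H h2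
  exact Nat.eq_one_of_dvd_coprimes hS.cop a b

theorem Split.exists_mul {K H : Subgroup G} (hS : Split K H) (g : G) : ∃ k ∈ K, ∃ h ∈ H, g = k * h := by
  have := hS.normal
  have h1 : g ∈ K ⊔ H := by rw [hS.compl]; trivial
  rw [← SetLike.mem_coe, Subgroup.normal_mul K H] at h1
  obtain ⟨k, hk, h, hh, e⟩ := Set.mem_mul.1 h1
  exact ⟨k, hk, h, hh, e.symm⟩

theorem Split.isComplement' {K H : Subgroup G} (hS : Split K H) : K.IsComplement' H := by
  have := hS.normal
  refine Subgroup.isComplement'_of_disjoint_and_mul_eq_univ (disjoint_iff.2 hS.inf_eq_bot) ?_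
  rw [← Subgroup.normal_mul K H, hS.compl]
  rfl

theorem Split.card {K H : Subgroup G} (hS : Split K H) : Nat.card G = Nat.card K * Nat.card H :=
  hS.isComplement'.card_mul_card.symm

variable [Finite G]

/-- a Sylow subgroup inside `H` -/
theorem Split.exists_sylow {K H : Subgroup G} (hS : Split K H) {p : ℕ} (hp : p.Prime) (hpH : p ∣ Nat.card H) :
    ∃ P : Sylow p G, (P : Subgroup G) ≤ H := by
  have : Fact p.Prime := ⟨hp⟩
  obtain ⟨P0⟩ : Nonempty (Sylow p H) := inferInstance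
  obtain ⟨P, hP⟩ := (P0.isPGroup'.map H.subtype).exists_le_sylow
  refine ⟨P, ?_⟩
  have hK : ¬ p ∣ Nat.card K := fun h => hp.one_lt.ne' (Nat.eq_one_of_dvd_coprimes hS.cop h hpH)
  have h1 : Nat.card (P : Subgroup G) = p ^ (Nat.card G).factorization p := P.card_eq_multiplicity
  have h2 : Nat.card (P0 : Subgroup H) = p ^ (Nat.card H).factorization p := P0.card_eq_multiplicity
  have h3 : Nat.card ((P0 : Subgroup H).map H.subtype) = Nat.card (P0 : Subgroup H) :=
    Nat.card_congr (Subgroup.equivMapOfInjective _ _ H.subtype_injective).toEquiv.symm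
  have h4 : (Nat.card G).factorization p = (Nat.card H).factorization p := by
    rw [hS.card, Nat.factorization_mul (Nat.card_pos).ne' (Nat.card_pos).ne']
    simp [Nat.factorization_eq_zero_of_not_dvd hK]
  have h5 : ((P0 : Subgroup H).map H.subtype) = (P : Subgroup G) :=
    Subgroup.eq_of_le_of_card_ge hP (by rw [h3, h2, h1, h4])
  rw [← h5]
  exact Subgroup.map_subtype_le _

theorem moved_iff {p : ℕ} (hp : p.Prime) (x : G) :
    ¬ Moved p x ↔ ∃ Q : Sylow p G, (Q : Subgroup G) ≤ Subgroup.centralizer ({x} : Set G) := by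
  have : Fact p.Prime := ⟨hp⟩
  constructor
  · exact fun h => S4149.exists_sylow_le_centralizer p _ h
  · rintro ⟨Q, hQ⟩ h
    exact Q.not_dvd_index (h.trans (Subgroup.index_dvd_of_le hQ))

/-- All Sylow subgroups are `K`-conjugate to the one inside `H`. -/
theorem Split.sylow_conj {K H : Subgroup G} (hS : Split K H) {p : ℕ} (hp : p.Prime) (P Q : Sylow p G)
    (hPH : (P : Subgroup G) ≤ H) : ∃ k ∈ K, ∀ y : G, y ∈ Q ↔ k⁻¹ * y * k ∈ P := by
  have : Fact p.Prime := ⟨hp⟩
  obtain ⟨g, hg⟩ := MulAction.exists_smul_eq G P Q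
  obtain ⟨k, hk, h, hh, rfl⟩ := hS.exists_mul g
  refine ⟨k, hk, fun y => ?_⟩
  have h1 : y ∈ Q ↔ (k * h)⁻¹ * y * (k * h) ∈ P := by
    rw [← hg]
    change y ∈ (((k * h) • P : Sylow p G) : Subgroup G) ↔ _
    rw [Sylow.coe_subgroup_smul, Subgroup.mem_pointwise_smul_iff_inv_smul_mem]
    simp only [MulAut.smul_def, MulAut.inv_def]
    rw [MulAut.conj_symm_apply]
    rfl
  rw [h1]
  have h2 : (k * h)⁻¹ * y * (k * h) = h⁻¹ * (k⁻¹ * y * k) * h := by group
  rw [h2]
  constructor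
  · intro h3
    have h4 : k⁻¹ * y * k = h * (h⁻¹ * (k⁻¹ * y * k) * h) * h⁻¹ := by group
    have h5 := hS.comm h hh _ (hPH h3)
    rw [h4, h5]
    simpa using h3
  · intro h3
    have h5 := hS.comm _ (hPH h3) h hh
    rw [mul_assoc, h5, ← mul_assoc, inv_mul_cancel, one_mul]
    exact h3

theorem Split.commutator_normal {K H : Subgroup G} (hS : Split K H) {p : ℕ} (P : Sylow p G)
    (hPH : (P : Subgroup G) ≤ H) : (⁅K, (P : Subgroup G)⁆ : Subgroup G).Normal := by
  have := hS.normal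
  refine ⟨fun n hn g => ?_⟩
  obtain ⟨k, hk, h, hh, rfl⟩ := hS.exists_mul g
  have h1 : h * n * h⁻¹ ∈ ⁅K, (P : Subgroup G)⁆ := by
    have h2 : (⁅K, (P : Subgroup G)⁆ : Subgroup G).map (MulAut.conj h).toMonoidHom ≤ ⁅K, (P : Subgroup G)⁆ := by
      rw [Subgroup.map_commutator]
      refine Subgroup.commutator_mono ?_ ?_
      · rintro _ ⟨x, hx, rfl⟩
        exact hS.normal.conj_mem x hx h
      · rintro _ ⟨x, hx, rfl⟩
        change h * x * h⁻¹ ∈ _
        rw [hS.comm h hh x (hPH hx), mul_inv_cancel_right]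
        exact hx
    exact h2 ⟨n, hn, rfl⟩
  have h3 : k * (h * n * h⁻¹) * k⁻¹ ∈ ⁅K, (P : Subgroup G)⁆ := by
    have h4 : K ≤ Subgroup.normalizer ((⁅K, (P : Subgroup G)⁆ : Subgroup G) : Set G) := by
      exact Subgroup.normalizer_commutator_ge_left _ _
    exact (Subgroup.mem_normalizer_iff.1 (h4 hk) _).1 h1
  have h5 : k * h * n * (k * h)⁻¹ = k * (h * n * h⁻¹) * k⁻¹ := by group
  rw [h5]
  exact h3

/-- `[K, P]` does not depend on the Sylow subgroup. -/
theorem Split.commutator_eq {K H : Subgroup G} (hS : Split K H) {p : ℕ} (hp : p.Prime) (P Q : Sylow p G)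
    (hPH : (P : Subgroup G) ≤ H) : ⁅K, (Q : Subgroup G)⁆ = ⁅K, (P : Subgroup G)⁆ := by
  obtain ⟨k, hk, hkQ⟩ := hS.sylow_conj hp P Q hPH
  have hn := hS.commutator_normal P hPH
  have h1 : (P : Subgroup G).map (MulAut.conj k).toMonoidHom = (Q : Subgroup G) := by
    ext y
    rw [Subgroup.mem_map]
    constructor
    · rintro ⟨x, hx, rfl⟩
      refine (hkQ _).2 ?_
      change k⁻¹ * (k * x * k⁻¹) * k ∈ P
      rw [show k⁻¹ * (k * x * k⁻¹) * k = x by group]
      exact hx
    · intro hy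
      refine ⟨k⁻¹ * y * k, (hkQ y).1 hy, ?_⟩
      change k * (k⁻¹ * y * k) * k⁻¹ = y
      group
  have h2 : K.map (MulAut.conj k).toMonoidHom = K := by
    ext y
    rw [Subgroup.mem_map]
    constructor
    · rintro ⟨x, hx, rfl⟩
      exact hS.normal.conj_mem x hx k
    · intro hy
      refine ⟨k⁻¹ * y * k, ?_, ?_⟩
      · have := hS.normal.conj_mem y hy k⁻¹
        rwa [inv_inv] at this
      · change k * (k⁻¹ * y * k) * k⁻¹ = y
        group
  have h3 : (⁅K, (P : Subgroup G)⁆ : Subgroup G).map (MulAut.conj k).toMonoidHom = ⁅K, (P : Subgroup G)⁆ := by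
    ext y
    rw [Subgroup.mem_map]
    constructor
    · rintro ⟨x, hx, rfl⟩
      exact hn.conj_mem x hx k
    · intro hy
      refine ⟨k⁻¹ * y * k, ?_, ?_⟩
      · have := hn.conj_mem y hy k⁻¹
        rwa [inv_inv] at this
      · change k * (k⁻¹ * y * k) * k⁻¹ = y
        group
  rw [← h3, Subgroup.map_commutator, h1, h2]

theorem Split.commutator_eq' {K H : Subgroup G} (hS : Split K H) {p : ℕ} (hp : p.Prime) (hpH : p ∣ Nat.card H)
    (P Q : Sylow p G) : ⁅K, (Q : Subgroup G)⁆ = ⁅K, (P : Subgroup G)⁆ := by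
  obtain ⟨P0, hP0⟩ := hS.exists_sylow hp hpH
  rw [hS.commutator_eq hp P0 Q hP0, hS.commutator_eq hp P0 P hP0]

theorem Split.commutator_normal' {K H : Subgroup G} (hS : Split K H) {p : ℕ} (hp : p.Prime)
    (hpH : p ∣ Nat.card H) (P : Sylow p G) : (⁅K, (P : Subgroup G)⁆ : Subgroup G).Normal := by
  obtain ⟨P0, hP0⟩ := hS.exists_sylow hp hpH
  rw [hS.commutator_eq hp P0 P hP0]
  exact hS.commutator_normal P0 hP0

theorem Split.commutator_le {K H : Subgroup G} (hS : Split K H) (P : Subgroup G) : ⁅K, P⁆ ≤ K := by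
  have := hS.normal
  exact Subgroup.commutator_le_left K P

/-- `[K, P, P] = [K, P]` -/
theorem Split.commutator_commutator {K H : Subgroup G} (hS : Split K H) {p : ℕ} (hp : p.Prime)
    (hpH : p ∣ Nat.card H) (P : Sylow p G) :
    ⁅⁅K, (P : Subgroup G)⁆, (P : Subgroup G)⁆ = ⁅K, (P : Subgroup G)⁆ := by
  have : Fact p.Prime := ⟨hp⟩
  have hK : ¬ p ∣ Nat.card K := fun h => hp.one_lt.ne' (Nat.eq_one_of_dvd_coprimes hS.cop h hpH)
  refine Lib.CoprimeCommutator.commutator_commutator_eq (P : Subgroup G) K ?_ ?_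
  · have := hS.normal
    rw [Subgroup.normalizer_eq_top]
    exact le_top
  · obtain ⟨n, hn⟩ := IsPGroup.iff_card.1 P.isPGroup'
    rw [hn]
    exact Nat.Coprime.pow_left n ((Nat.Prime.coprime_iff_not_dvd hp).2 hK)

end Cfsg.Agent.H822.Cls
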