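import Cfsg.Agent.H308.ClsNum

/-!
# S4148: the bound for a group of automorphisms of `S / A`
-/

set_option autoImplicit false
set_option linter.unusedSectionVars false
set_option linter.style.haveILetI false

namespace Cfsg.Agent.H822.Cls

open scoped Pointwise commutatorElement
open Cfsg.Agent.H308.ClsNum

universe u

/-- the number of endomorphisms of an elementary abelian group -/
theorem card_addHom_le {q : ℕ} (hq : q.Prime) (V : Type*) [AddCommGroup V] [Finite V] [Module (ZMod q) V] (k : ℕ)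
    (hk : Nat.card V = q ^ k) : Nat.card (V →+ V) ≤ q ^ (k * k) := by
  have : Fact q.Prime := ⟨hq⟩
  let f : (V →+ V) → (V →ₗ[ZMod q] V) := fun g => AddMonoidHom.toZModLinearMap q g
  have hf : Function.Injective f := by
    intro a b hab
    ext x
    exact LinearMap.congr_fun hab x
  have hMf : Module.Finite (ZMod q) V := Module.Finite.of_finite
  have hfinr : Module.finrank (ZMod q) V = k := by
    have h1 := Module.natCard_eq_pow_finrank (K := ZMod q) (V := V)
    rw [hk, Nat.card_zmod] at h1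
    exact (Nat.pow_right_injective hq.two_le h1).symm
  have h3 : Nat.card (V →ₗ[ZMod q] V) = q ^ (k * k) := by
    rw [Module.natCard_eq_pow_finrank (K := ZMod q), Nat.card_zmod, Module.finrank_linearMap, hfinr]
  have hfin2 : Finite (V →ₗ[ZMod q] V) := DFunLike.finite _
  rw [← h3]
  exact Nat.card_le_card_of_injective f hf

/-- the multiplicative version -/
theorem card_hom_le {q : ℕ} (hq : q.Prime) (K : Type*) [CommGroup K] [Finite K] (h : ∀ x : K, x ^ q = 1) (k : ℕ)
    (hk : Nat.card K = q ^ k) : Nat.card (K →* K) ≤ q ^ (k * k) := by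
  letI : Module (ZMod q) (Additive K) := AddCommGroup.zmodModule (n := q) (fun x => by
    have := h x.toMul
    exact congrArg Additive.ofMul this)
  have e1 : (K →* K) ≃ (Additive K →+ Additive K) := MonoidHom.toAdditive
  rw [Nat.card_congr e1]
  refine card_addHom_le hq (Additive K) k ?_
  rw [← hk]
  exact Nat.card_congr Additive.toMul

section

variable {L U F : Type*} [Group L] [Finite L] [AddCommGroup U] [Finite U] [Nontrivial U]
  [DistribMulAction L U] [Field F] [Finite F] [Module F U] (D : Prim L U F)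

/-- conjugation on `S / A` -/
noncomputable def conjX (x : L) : (D.S ⧸ D.A.subgroupOf D.S) →* (D.S ⧸ D.A.subgroupOf D.S) :=
  letI := D.S_normal
  QuotientGroup.map _ _ (MulAut.conjNormal x : MulAut D.S).toMonoidHom (by
    intro a ha
    rw [Subgroup.mem_comap, Subgroup.mem_subgroupOf]
    have h1 : (((MulAut.conjNormal x : MulAut D.S).toMonoidHom a : D.S) : L) = x * a * x⁻¹ := by
      exact MulAut.conjNormal_apply x a
    rw [h1]
    exact D.A_normal.conj_mem _ ha x)

theorem conjX_mk (x : L) (s : D.S) (s' : D.S) (h : (s' : L) = x * s * x⁻¹) :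
    conjX D x (s : D.S ⧸ D.A.subgroupOf D.S) = (s' : D.S ⧸ D.A.subgroupOf D.S) := by
  letI := D.S_normal
  have h1 : conjX D x (s : D.S ⧸ D.A.subgroupOf D.S) =
      (((MulAut.conjNormal x : MulAut D.S).toMonoidHom s : D.S) : D.S ⧸ D.A.subgroupOf D.S) := rfl
  rw [h1]
  congr 1
  apply Subtype.ext
  rw [h]
  exact MulAut.conjNormal_apply x s

/-- the action on the `q`-part -/
noncomputable def conjK (q : ℕ) (x : L) : K D q →* K D q :=
  ((conjX D x).comp (K D q).subtype).codRestrict (K D q) (by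
    intro y
    show (conjX D x y) ^ q = 1
    rw [← map_pow]
    have : (y : D.S ⧸ D.A.subgroupOf D.S) ^ q = 1 := y.2
    rw [this, map_one])

theorem conjK_eq {q : ℕ} {x y : L} (h : conjK D q x = conjK D q y) {s : L} (hs : s ∈ D.S) (hq : s ^ q ∈ D.A) :
    y⁻¹ * x * s * (y⁻¹ * x)⁻¹ * s⁻¹ ∈ D.A := by
  have hsK : (((⟨s, hs⟩ : D.S)) : D.S ⧸ D.A.subgroupOf D.S) ∈ K D q := by
    show (((⟨s, hs⟩ : D.S)) : D.S ⧸ D.A.subgroupOf D.S) ^ q = 1
    rw [← QuotientGroup.mk_pow, QuotientGroup.eq_one_iff, Subgroup.mem_subgroupOf]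
    exact hq
  have h1 := DFunLike.congr_fun h ⟨_, hsK⟩
  have h2 : conjX D x (((⟨s, hs⟩ : D.S)) : D.S ⧸ D.A.subgroupOf D.S) =
      conjX D y (((⟨s, hs⟩ : D.S)) : D.S ⧸ D.A.subgroupOf D.S) := congrArg Subtype.val h1
  rw [conjX_mk D x ⟨s, hs⟩ ⟨x * s * x⁻¹, D.S_normal.conj_mem s hs x⟩ rfl,
    conjX_mk D y ⟨s, hs⟩ ⟨y * s * y⁻¹, D.S_normal.conj_mem s hs y⟩ rfl, eq_comm, QuotientGroup.eq,
    Subgroup.mem_subgroupOf] at h2
  have h3 : (y * s * y⁻¹)⁻¹ * (x * s * x⁻¹) ∈ D.A := h2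
  have h4 := D.A_normal.conj_mem _ h3 (s * y⁻¹)
  have h5 : s * y⁻¹ * ((y * s * y⁻¹)⁻¹ * (x * s * x⁻¹)) * (s * y⁻¹)⁻¹ = y⁻¹ * x * s * (y⁻¹ * x)⁻¹ * s⁻¹ := by
    group
  rwa [h5] at h4

theorem mem_of_triv {Q : Finset ℕ} {m : ℕ → ℕ} (hN : D.Num Q m) {c : L} (hc : c ∈ Subgroup.centralizer (D.A : Set L))
    (h : ∀ q ∈ Q, D.Triv q c) : c ∈ D.S := by
  apply D.dual c hc
  -- the subgroup of elements centralised modulo `A`
  let T : Subgroup L :=
    { carrier := {s | c * s * c⁻¹ * s⁻¹ ∈ D.A}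
      mul_mem' := by
        intro a b ha hb
        have ha' : c * a * c⁻¹ * a⁻¹ ∈ D.A := ha
        have hb' : c * b * c⁻¹ * b⁻¹ ∈ D.A := hb
        show c * (a * b) * c⁻¹ * (a * b)⁻¹ ∈ D.A
        have h1 : c * (a * b) * c⁻¹ * (a * b)⁻¹ = c * a * c⁻¹ * a⁻¹ * (a * (c * b * c⁻¹ * b⁻¹) * a⁻¹) := by group
        rw [h1]
        exact D.A.mul_mem ha' (D.A_normal.conj_mem _ hb' a)
      one_mem' := by
        show c * 1 * c⁻¹ * 1⁻¹ ∈ D.A
        simp
      inv_mem' := by
        intro a ha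
        have ha' : c * a * c⁻¹ * a⁻¹ ∈ D.A := ha
        show c * a⁻¹ * c⁻¹ * a⁻¹⁻¹ ∈ D.A
        have h1 : c * a⁻¹ * c⁻¹ * a⁻¹⁻¹ = a⁻¹ * (c * a * c⁻¹ * a⁻¹)⁻¹ * a⁻¹⁻¹ := by group
        rw [h1]
        exact D.A_normal.conj_mem _ (D.A.inv_mem ha') a⁻¹ }
  have hAT : ∀ a ∈ D.A, a ∈ T := by
    intro a ha
    show c * a * c⁻¹ * a⁻¹ ∈ D.A
    exact D.A.mul_mem (D.A_normal.conj_mem a ha c) (D.A.inv_mem ha)
  have hmain : ∀ N : ℕ, Squarefree N → ∀ s ∈ D.S, s ^ N ∈ D.A → s ∈ T := by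
    intro N
    induction N using Nat.strong_induction_on with
    | _ N ih =>
      intro hN0 s hs hsN
      by_cases hN1 : N = 1
      · rw [hN1, pow_one] at hsN
        exact hAT s hsN
      obtain ⟨q, hq, M, rfl⟩ := Nat.exists_prime_and_dvd hN1
      have hne : q * M ≠ 0 := hN0.ne_zero
      have hM0 : 0 < M := Nat.pos_of_ne_zero (right_ne_zero_of_mul hne)
      have hqM : ¬ q ∣ M := by
        intro h
        have := hN0 q (mul_dvd_mul_left q h)
        exact hq.one_lt.ne' (Nat.isUnit_iff.1 this)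
      have hcop : Nat.Coprime q M := hq.coprime_iff_not_dvd.2 hqM
      have h1 : s ^ q ∈ T := by
        refine ih M ?_ (hN0.squarefree_of_dvd (Dvd.intro_left q rfl)) _ (D.S.pow_mem hs q) (by rwa [← pow_mul])
        nlinarith [hq.two_le]
      have h2 : s ^ M ∈ T := by
        have h3 : (s ^ M) ^ q ∈ D.A := by rw [← pow_mul, mul_comm]; exact hsN
        by_cases hqQ : q ∈ Q
        · exact h q hqQ _ (D.S.pow_mem hs M) h3
        · exact hAT _ (hN.triv q hq hqQ _ (D.S.pow_mem hs M) h3)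
      have h4 := Nat.gcd_eq_gcd_ab q M
      rw [hcop.gcd_eq_one, Nat.cast_one] at h4
      have h5 : s = (s ^ q) ^ (Nat.gcdA q M) * (s ^ M) ^ (Nat.gcdB q M) := by
        rw [← zpow_natCast s q, ← zpow_natCast s M, ← zpow_mul, ← zpow_mul, ← zpow_add, ← h4, zpow_one]
      rw [h5]
      exact T.mul_mem (T.zpow_mem h1 _) (T.zpow_mem h2 _)
  intro s hs
  obtain ⟨N, hN, hsN⟩ := D.prime_exp s hs
  exact hmain N hN s hs hsN

end

theorem relIndexLe : RelIndexLe.{u} := by
  intro L U F _ _ _ _ _ _ _ _ _ D Q m hN E hE I hI htriv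
  classical
  have hKc : ∀ q ∈ I, Nat.card (K D q) = q ^ (2 * m q) := by
    intro q hq
    rw [← relIndex_W]
    exact hN.card_part q (hI hq) _ fun s => mem_W D
  have hprime : ∀ q ∈ I, q.Prime := fun q hq => hN.prime q (hI hq)
  have hle : ∀ q ∈ I, Nat.card (K D q →* K D q) ≤ q ^ (4 * m q ^ 2) := by
    intro q hq
    have h1 := (card_hom_le (hprime q hq) (K D q) (fun x => Subtype.ext x.2) (2 * m q) (hKc q hq))
    refine h1.trans (le_of_eq ?_)
    congr 1
    ring
  have hfin : ∀ q : ℕ, Finite (K D q →* K D q) := fun q => DFunLike.finite _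
  let f : E ⧸ D.S.subgroupOf E → ∀ q : I, (K D q →* K D q) := fun x q => conjK D q (x.out : E)
  have hf : Function.Injective f := by
    intro x y hxy
    have h1 : ((y.out : E) : L)⁻¹ * ((x.out : E) : L) ∈ D.S := by
      refine mem_of_triv D hN (hE (E.mul_mem (E.inv_mem y.out.2) x.out.2)) ?_
      intro q hq
      by_cases hqI : q ∈ I
      · intro s hs hsq
        exact conjK_eq D (congrFun hxy ⟨q, hqI⟩) hs hsq
      · exact htriv q hq hqI _ (E.mul_mem (E.inv_mem y.out.2) x.out.2)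
    rw [← QuotientGroup.out_eq' x, ← QuotientGroup.out_eq' y, eq_comm, QuotientGroup.eq, Subgroup.mem_subgroupOf]
    exact h1
  have h2 : D.S.relIndex E = Nat.card (E ⧸ D.S.subgroupOf E) := rfl
  rw [h2]
  refine (Nat.card_le_card_of_injective f hf).trans ?_
  rw [Nat.card_pi, ← Finset.prod_coe_sort I (fun q => q ^ (4 * m q ^ 2))]
  exact Finset.prod_le_prod' fun q _ => hle q q.2

end Cfsg.Agent.H822.Cls
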