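import Cfsg.Agent.H822.Cls.SplitBasic
import Cfsg.Agent.SignalizersComponents.CoprimeBasic

/-!
# Assembly of S4148
-/

set_option autoImplicit false

namespace Cfsg.Agent.H822.Cls

open scoped Pointwise commutatorElement

universe u

variable {G : Type u} [Group G] [Finite G]

/-- Moving in a subgroup containing all the relevant Sylow subgroups. -/
theorem moved_of_sub {K H : Subgroup G} (hS : Split K H) {p : ℕ} (hp : p.Prime) (hpH : p ∣ Nat.card H)
    (L : Subgroup G) (hHL : H ≤ L) (hcomm : ∀ P : Sylow p G, ⁅K, (P : Subgroup G)⁆ ≤ L) (x : L)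
    (h : Moved p x) : Moved p (x : G) := by
  have : Fact p.Prime := ⟨hp⟩
  by_contra hcon
  obtain ⟨Q, hQ⟩ := (moved_iff hp _).1 hcon
  obtain ⟨P, hP⟩ := hS.exists_sylow hp hpH
  obtain ⟨k, hk, hkQ⟩ := hS.sylow_conj hp P Q hP
  have hQL : (Q : Subgroup G) ≤ L := by
    intro y hy
    have h1 := (hkQ y).1 hy
    have h2 : y = ⁅k, k⁻¹ * y * k⁆ * (k⁻¹ * y * k) := by
      rw [commutatorElement_def]; group
    rw [h2]
    exact L.mul_mem (hcomm P (Subgroup.commutator_mem_commutator hk h1)) (hHL (hP h1))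
  refine (moved_iff hp x).2 ⟨Q.subtype hQL, ?_⟩ h
  intro y hy
  have h1 : (y : G) ∈ Q := by
    have : y ∈ ((Q.subtype hQL : Sylow p L) : Subgroup L) := hy
    rw [Sylow.coe_subtype, Subgroup.mem_subgroupOf] at this
    exact this
  have h2 := hQ h1
  rw [Subgroup.mem_centralizer_singleton_iff] at h2 ⊢
  exact Subtype.ext h2

theorem good_of_two {p a b n : ℕ} (ha : a.Prime) (hb : b.Prime) (hp : p.Prime) (hab : a < b) (hbp : b < p)
    (han : ¬ a ∣ n) (hbn : ¬ b ∣ n) : Good p n := by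
  have ha2 := ha.two_le
  refine ⟨?_, ?_, ?_⟩
  · by_contra h
    have h4 : p = 4 := by omega
    subst h4
    norm_num at hp
  · rintro rfl
    have h1 : b = 3 ∨ b = 4 := by omega
    rcases h1 with rfl | rfl
    · have : a = 2 := by omega
      subst this
      exact ⟨han, hbn⟩
    · norm_num at hb
  · rintro rfl
    have h1 : b = 3 ∨ b = 4 ∨ b = 5 ∨ b = 6 := by omega
    rcases h1 with rfl | rfl | rfl | rfl
    · have : a = 2 := by omega
      subst this
      exact Or.inl ⟨han, hbn⟩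
    · norm_num at hb
    · have : a = 2 ∨ a = 3 ∨ a = 4 := by omega
      rcases this with rfl | rfl | rfl
      · exact Or.inr (Or.inl ⟨han, hbn⟩)
      · exact Or.inr (Or.inr ⟨han, hbn⟩)
      · norm_num at ha
    · norm_num at hb

/-- All elements but two of a finite set have two smaller elements. -/
theorem exists_exceptional (A : Finset ℕ) : ∃ E : Finset ℕ, E.card ≤ 2 ∧
    ∀ p ∈ A, p ∉ E → ∃ a ∈ A, ∃ b ∈ A, a < b ∧ b < p := by
  classical
  rcases A.eq_empty_or_nonempty with h | h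
  · exact ⟨∅, by simp, by simp [h]⟩
  · set a := A.min' h with ha
    rcases (A.erase a).eq_empty_or_nonempty with h' | h'
    · refine ⟨{a}, by simp, ?_⟩
      intro p hp hpa
      rw [Finset.mem_singleton] at hpa
      have : p ∈ A.erase a := Finset.mem_erase.2 ⟨hpa, hp⟩
      rw [h'] at this
      simp at this
    · set b := (A.erase a).min' h' with hb
      refine ⟨{a, b}, Finset.card_le_two, ?_⟩
      intro p hp hpE
      simp only [Finset.mem_insert, Finset.mem_singleton, not_or] at hpE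
      have hbm := (A.erase a).min'_mem h'
      rw [← hb] at hbm
      have h1 : a < b := lt_of_le_of_ne (A.min'_le b (Finset.mem_of_mem_erase hbm))
        (Finset.ne_of_mem_erase hbm).symm
      refine ⟨a, A.min'_mem h, b, Finset.mem_of_mem_erase hbm, h1, ?_⟩
      exact lt_of_le_of_ne ((A.erase a).min'_le p (Finset.mem_erase.2 ⟨hpE.1, hp⟩)) (Ne.symm hpE.2)

/-- The solvable part: at most `2 σ + 2` primes. -/
theorem card_A2 (hT : TwoObjects.{u}) {σ : ℕ}
    (hσ : ∀ x : G, ((Subgroup.centralizer ({x} : Set G)).index).primeFactors.card ≤ σ)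
    (K H : Subgroup G) (hS : Split K H) (A A2 : Finset ℕ) (hA2 : A2 ⊆ A)
    (hA : ∀ p ∈ A, p.Prime ∧ p ∣ Nat.card H)
    (hsol : ∀ p ∈ A2, ∀ P : Sylow p G, Group.IsSolvable (⁅K, (P : Subgroup G)⁆ : Subgroup G))
    (hne : ∀ p ∈ A2, ∀ P : Sylow p G, ⁅K, (P : Subgroup G)⁆ ≠ ⊥) : A2.card ≤ 2 * σ + 2 := by
  classical
  have hKn := hS.normal
  obtain ⟨R0, hR0c, hR0s, hR0⟩ := SignalizersComponents.ComponentExists.exists_solvableRadical G
  have hR0n : R0.Normal := inferInstance
  set R := R0 ⊓ K with hR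
  have hRn : R.Normal := inferInstance
  have hRs : Group.IsSolvable R := by
    have : R ≤ R0 := inf_le_left
    exact Group.isSolvable_of_isSolvable_injective (Subgroup.inclusion_injective this)
  have hRK : R ≤ K := inf_le_right
  set L := R ⊔ H with hL
  have hRL : R ≤ L := le_sup_left
  have hHL : H ≤ L := le_sup_right
  have hHs : Group.IsSolvable H := by
    exact Group.isSolvable_of_comm fun a b => Subtype.ext (hS.comm a a.2 b b.2)
  have hLs : Group.IsSolvable L := by
    refine SignalizersComponents.CoprimeBasic.isSolvable_sup ?_ hRs hHs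
    rw [Subgroup.normalizer_eq_top]
    exact le_top
  -- the splitting of `L`
  have hSL : Split (R.subgroupOf L) (H.subgroupOf L) := by
    refine ⟨inferInstance, ?_, ?_, ?_⟩
    · intro a ha b hb
      exact Subtype.ext (hS.comm a ha b hb)
    · rw [Nat.card_congr (Subgroup.subgroupOfEquivOfLe hRL).toEquiv,
        Nat.card_congr (Subgroup.subgroupOfEquivOfLe hHL).toEquiv]
      exact Nat.Coprime.coprime_dvd_left (Subgroup.card_dvd_of_le hRK) hS.cop
    · rw [← Subgroup.subgroupOf_sup hRL hHL, Subgroup.subgroupOf_self]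
  have hcR : Nat.card (R.subgroupOf L) = Nat.card R := Nat.card_congr (Subgroup.subgroupOfEquivOfLe hRL).toEquiv
  have hcH : Nat.card (H.subgroupOf L) = Nat.card H := Nat.card_congr (Subgroup.subgroupOfEquivOfLe hHL).toEquiv
  obtain ⟨x1, hx1, x2, hx2, hx⟩ := hT L (R.subgroupOf L) (H.subgroupOf L) hSL
  -- `[K, P] ≤ R`
  have hKR : ∀ p ∈ A2, ∀ P : Sylow p G, ⁅K, (P : Subgroup G)⁆ ≤ R := by
    intro p hp P
    obtain ⟨hpp, hpH⟩ := hA p (hA2 hp)
    exact le_inf (hR0 _ (hS.commutator_normal' hpp hpH P) (hsol p hp P)) (hS.commutator_le _)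
  obtain ⟨E, hE2, hE⟩ := exists_exceptional A
  have hmain : ∀ p ∈ A2, p ∉ E → Moved p (x1 : G) ∨ Moved p (x2 : G) := by
    intro p hp hpE
    obtain ⟨hpp, hpH⟩ := hA p (hA2 hp)
    obtain ⟨a, ha, b, hb, hab, hbp⟩ := hE p (hA2 hp) hpE
    have hgood : Good p (Nat.card (R.subgroupOf L)) := by
      rw [hcR]
      obtain ⟨hap, haH⟩ := hA a ha
      obtain ⟨hbpr, hbH⟩ := hA b hb
      have hcop := Nat.Coprime.coprime_dvd_left (Subgroup.card_dvd_of_le hRK) hS.cop
      exact good_of_two hap hbpr hpp hab hbp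
        (fun h => hap.one_lt.ne' (Nat.eq_one_of_dvd_coprimes hcop h haH))
        (fun h => hbpr.one_lt.ne' (Nat.eq_one_of_dvd_coprimes hcop h hbH))
    obtain ⟨P, hP⟩ := hS.exists_sylow hpp hpH
    have hPL : (P : Subgroup G) ≤ L := hP.trans hHL
    have hPne : ⁅R.subgroupOf L, ((P.subtype hPL : Sylow p L) : Subgroup L)⁆ ≠ ⊥ := by
      intro h0
      apply hne p hp P
      rw [← hS.commutator_commutator hpp hpH P, eq_bot_iff]
      refine (Subgroup.commutator_mono (hKR p hp P) le_rfl).trans ?_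
      rw [Subgroup.commutator_le]
      intro r hr y hy
      have h1 : ⁅(⟨r, hRL hr⟩ : L), (⟨y, hPL hy⟩ : L)⁆ ∈
          ⁅R.subgroupOf L, ((P.subtype hPL : Sylow p L) : Subgroup L)⁆ := by
        refine Subgroup.commutator_mem_commutator ?_ ?_
        · rw [Subgroup.mem_subgroupOf]; exact hr
        · rw [Sylow.coe_subtype, Subgroup.mem_subgroupOf]; exact hy
      rw [h0, Subgroup.mem_bot] at h1
      rw [Subgroup.mem_bot]
      exact congrArg Subtype.val h1
    have hcomm : ∀ P : Sylow p G, ⁅K, (P : Subgroup G)⁆ ≤ L := fun P => (hKR p hp P).trans hRL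
    rcases hx p hpp (by rw [hcH]; exact hpH) hgood (P.subtype hPL) hPne with h | h
    · exact Or.inl (moved_of_sub hS hpp hpH L hHL hcomm x1 h)
    · exact Or.inr (moved_of_sub hS hpp hpH L hHL hcomm x2 h)
  have hsub : A2 ⊆ (A2.filter fun p => Moved p (x1 : G)) ∪ (A2.filter fun p => Moved p (x2 : G)) ∪ E := by
    intro p hp
    rw [Finset.mem_union, Finset.mem_union, Finset.mem_filter, Finset.mem_filter]
    by_cases hpE : p ∈ E
    · exact Or.inr hpE
    · rcases hmain p hp hpE with h | h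
      · exact Or.inl (Or.inl ⟨hp, h⟩)
      · exact Or.inl (Or.inr ⟨hp, h⟩)
  have hprime : ∀ p ∈ A2, p.Prime := fun p hp => (hA p (hA2 hp)).1
  have c1 := card_moved_le hσ (A2.filter fun p => Moved p (x1 : G))
    (fun p hp => hprime p (Finset.mem_filter.1 hp).1) x1 (fun p hp => (Finset.mem_filter.1 hp).2)
  have c2 := card_moved_le hσ (A2.filter fun p => Moved p (x2 : G))
    (fun p hp => hprime p (Finset.mem_filter.1 hp).1) x2 (fun p hp => (Finset.mem_filter.1 hp).2)
  calc A2.card ≤ _ := Finset.card_le_card hsub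
    _ ≤ _ := Finset.card_union_le _ _
    _ ≤ ((A2.filter fun p => Moved p (x1 : G)).card + (A2.filter fun p => Moved p (x2 : G)).card) + E.card :=
      Nat.add_le_add_right (Finset.card_union_le _ _) _
    _ ≤ _ := by omega

/-- The nonsolvable part: `A1 = ∅` or `|A1| + 2 ≤ σ`. -/
theorem card_A1 (hN : NonsolvObject.{u}) {σ : ℕ}
    (hσ : ∀ x : G, ((Subgroup.centralizer ({x} : Set G)).index).primeFactors.card ≤ σ)
    (K H : Subgroup G) (hS : Split K H) (A1 : Finset ℕ)
    (hA : ∀ p ∈ A1, p.Prime ∧ p ∣ Nat.card H)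
    (hsol : ∀ p ∈ A1, ∃ P : Sylow p G, ¬ Group.IsSolvable (⁅K, (P : Subgroup G)⁆ : Subgroup G)) :
    A1 = ∅ ∨ A1.card + 2 ≤ σ := by
  classical
  rcases A1.eq_empty_or_nonempty with h | ⟨p0, hp0⟩
  · exact Or.inl h
  right
  obtain ⟨x, hxK, h1, h2⟩ := hN G K H hS
  obtain ⟨q1, q2, hq1, hq2, hne, hd1, hd2, hm1, hm2⟩ :=
    h2 ⟨p0, (hA p0 hp0).1, (hA p0 hp0).2, hsol p0 hp0⟩
  have hnot : ∀ q : ℕ, q.Prime → q ∣ Nat.card K → q ∉ A1 := by
    intro q hq hqK hqA
    exact hq.one_lt.ne' (Nat.eq_one_of_dvd_coprimes hS.cop hqK (hA q hqA).2)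
  have hmoved : ∀ p ∈ insert q1 (insert q2 A1), Moved p x := by
    intro p hp
    rw [Finset.mem_insert, Finset.mem_insert] at hp
    rcases hp with rfl | rfl | hp
    · exact hm1
    · exact hm2
    · obtain ⟨P, hP⟩ := hsol p hp
      exact h1 p (hA p hp).1 (hA p hp).2 P hP
  have hprime : ∀ p ∈ insert q1 (insert q2 A1), p.Prime := by
    intro p hp
    rw [Finset.mem_insert, Finset.mem_insert] at hp
    rcases hp with rfl | rfl | hp
    · exact hq1
    · exact hq2
    · exact (hA p hp).1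
  have h3 := card_moved_le hσ _ hprime x hmoved
  rw [Finset.card_insert_of_notMem, Finset.card_insert_of_notMem (hnot q2 hq2 hd2)] at h3
  · exact h3
  · rw [Finset.mem_insert, not_or]
    exact ⟨hne, hnot q1 hq1 hd1⟩

/-- The theorem. -/
theorem main (hN : NonsolvObject.{u}) (hT : TwoObjects.{u}) (hE : ExistsSplit.{u}) (σ : ℕ)
    (hσ : ∀ x : G, ((Subgroup.centralizer ({x} : Set G)).index).primeFactors.card ≤ σ) :
    Nat.card {p : ℕ | p.Prime ∧ ∃ x : G, p ∣ (Subgroup.centralizer ({x} : Set G)).index} ≤ 5 * σ := by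
  classical
  set S : Finset ℕ := (Nat.card G).primeFactors.filter
    (fun p => ∃ x : G, p ∣ (Subgroup.centralizer ({x} : Set G)).index) with hS
  have hSeq : {p : ℕ | p.Prime ∧ ∃ x : G, p ∣ (Subgroup.centralizer ({x} : Set G)).index} = (S : Set ℕ) := by
    ext p
    simp only [Set.mem_ofPred_eq, hS, Finset.coe_filter, Nat.mem_primeFactors]
    constructor
    · rintro ⟨hp, x, hx⟩
      exact ⟨⟨hp, hx.trans (Subgroup.index_dvd_card _), (Nat.card_pos).ne'⟩, x, hx⟩
    · rintro ⟨⟨hp, _, _⟩, x, hx⟩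
      exact ⟨hp, x, hx⟩
  rw [hSeq]
  have hcS : Nat.card (S : Set ℕ) = S.card := by simp
  rw [hcS]
  have hSp : ∀ p ∈ S, p.Prime := fun p hp => Nat.prime_of_mem_primeFactors (Finset.mem_filter.1 hp).1
  have hSd : ∀ p ∈ S, p ∣ Nat.card G := fun p hp => Nat.dvd_of_mem_primeFactors (Finset.mem_filter.1 hp).1
  rcases Nat.eq_zero_or_pos σ with h0 | hpos
  · subst h0
    have : S = ∅ := by
      rw [Finset.eq_empty_iff_forall_notMem]
      intro p hp
      obtain ⟨x, hx⟩ := (Finset.mem_filter.1 hp).2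
      have h1 := hσ x
      rw [Nat.le_zero, Finset.card_eq_zero, Nat.primeFactors_eq_empty] at h1
      rcases h1 with h1 | h1
      · exact Subgroup.index_ne_zero_of_finite h1
      · rw [h1] at hx
        exact (hSp p hp).one_lt.ne' (Nat.dvd_one.1 hx)
    rw [this]
    simp
  obtain ⟨K, H, hKH, hA⟩ := hE G
  have hKn := hKH.normal
  set B := S.filter fun p => ¬ p ∣ Nat.card H with hB
  set A := S.filter fun p => p ∣ Nat.card H with hAdef
  set A1 := A.filter fun p => ∃ P : Sylow p G, ¬ Group.IsSolvable (⁅K, (P : Subgroup G)⁆ : Subgroup G) with hA1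
  set A2 := A.filter fun p => ¬ ∃ P : Sylow p G, ¬ Group.IsSolvable (⁅K, (P : Subgroup G)⁆ : Subgroup G) with hA2
  have c1 : A.card + B.card = S.card := Finset.card_filter_add_card_filter_not (s := S) _
  have c2 : A1.card + A2.card = A.card := Finset.card_filter_add_card_filter_not (s := A) _
  have hAmem : ∀ p ∈ A, p.Prime ∧ p ∣ Nat.card H := fun p hp =>
    ⟨hSp p (Finset.mem_filter.1 hp).1, (Finset.mem_filter.1 hp).2⟩
  have bB : B.card + 1 ≤ 2 * σ := by
    refine card_B hpos hσ B ?_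
    intro p hp
    obtain ⟨hpS, hpH⟩ := Finset.mem_filter.1 hp
    refine ⟨hSp p hpS, ?_⟩
    by_contra hcon
    push Not at hcon
    exact hpH ((hA p (hSp p hpS) (hSd p hpS)).2 hcon)
  have b1 := card_A1 hN hσ K H hKH A1 (fun p hp => hAmem p (Finset.mem_filter.1 hp).1)
    (fun p hp => (Finset.mem_filter.1 hp).2)
  have b2 : A2.card ≤ 2 * σ + 2 := by
    refine card_A2 hT hσ K H hKH A A2 (Finset.filter_subset _ _) hAmem ?_ ?_
    · intro p hp P
      by_contra hcon
      exact (Finset.mem_filter.1 hp).2 ⟨P, hcon⟩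
    · intro p hp P h0
      have hpA := (Finset.mem_filter.1 hp).1
      have hpS := (Finset.mem_filter.1 hpA).1
      obtain ⟨hpp, hpH⟩ := hAmem p hpA
      obtain ⟨P0, hP0⟩ := hKH.exists_sylow hpp hpH
      rw [hKH.commutator_eq hpp P0 P hP0] at h0
      -- `P0` is central
      have hcen : ∀ y ∈ P0, ∀ g : G, g * y = y * g := by
        intro y hy g
        obtain ⟨k, hk, h, hh, rfl⟩ := hKH.exists_mul g
        have e1 : k * y = y * k := by
          have : ⁅k, y⁆ ∈ ⁅K, (P0 : Subgroup G)⁆ := Subgroup.commutator_mem_commutator hk hy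
          rw [h0, Subgroup.mem_bot] at this
          exact commutatorElement_eq_one_iff_mul_comm.1 this
        have e2 : h * y = y * h := hKH.comm h hh y (hP0 hy)
        rw [mul_assoc, e2, ← mul_assoc, e1, mul_assoc]
      obtain ⟨x, hx⟩ := (Finset.mem_filter.1 hpS).2
      refine (moved_iff hpp x).2 ⟨P0, ?_⟩ hx
      intro y hy
      rw [Subgroup.mem_centralizer_singleton_iff]
      exact (hcen y hy x).symm
  rcases b1 with b1 | b1
  · rw [b1, Finset.card_empty] at c2
    omega
  · omega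

end Cfsg.Agent.H822.Cls
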