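import Cfsg.Agent.H822.Cls.RelIx
import Cfsg.Agent.H822.Cls.Plug
import Cfsg.Agent.H668.Dim.Bound
import Cfsg.Agent.H668.Dim.NotMem
import Cfsg.Agent.H96.Cls.LemD
import Cfsg.Agent.H96.Cls.ExSplit
import Cfsg.Agent.H822.Cls.Assembly
import Cfsg.Agent.H353.TwoPrimes
import Cfsg.Agent.H528.Cls.Nonsolv
import Cfsg.Agent.H877.ClsBase

/-!
# S4148: the assembly up to the nonabelian object
-/

set_option autoImplicit false

namespace Cfsg.Agent.H822.Cls

universe u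

theorem lemD' : LemD.{u} := by
  intro q p hq hp D _ _ _ hqD X _ _ _ hX hf P hP n hn
  exact Cfsg.Agent.H96.Cls.LemD.lemD hq hp hqD hX hf P hP hn

theorem lemDTwo' : LemDTwo.{u} := by
  intro p hp D _ _ hD X _ _ _ hX hf β h1 h2 h3 h4 P hP n hn
  exact Cfsg.Agent.H96.Cls.LemD.lemD_two hp hD hX hf β h1 h2 h3 h4 P hP hn

theorem notMem' : NotMem.{u} := by
  intro L U F _ _ _ _ _ _ _ _ _ D Q m hD M H hS p hp hpH
  exact Cfsg.Agent.H668.Dim.not_mem D hD M H hS hp hpH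

theorem twoObjects' : TwoObjects.{u} :=
  twoObjects Cfsg.Agent.H308.ClsNum.exists_num notMem' relIndexLe
    (Cfsg.Agent.H668.Dim.dim_bound lemD' lemDTwo')

theorem main_of_nonab (hNA : NonabObject.{u}) {G : Type u} [Group G] [Finite G] (σ : ℕ)
    (hσ : ∀ x : G, ((Subgroup.centralizer ({x} : Set G)).index).primeFactors.card ≤ σ) :
    Nat.card {p : ℕ | p.Prime ∧ ∃ x : G, p ∣ (Subgroup.centralizer ({x} : Set G)).index} ≤ 5 * σ :=
  main (Cfsg.Agent.H528.Cls.nonsolv_object hNA Cfsg.Agent.H353.TwoPrimes.two_primes) twoObjects'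
    Cfsg.Agent.H96.Cls.ExSplit.exists_split σ hσ

end Cfsg.Agent.H822.Cls
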