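import Cfsg.Agent.H822.Cls.Props
import Cfsg.Agent.S4149
import Cfsg.Agent.Lib.CoprimeCommutator
import Cfsg.Agent.SignalizersComponents.ComponentExists

/-!
# Counting primes in class sizes, and the assembly of S4148
-/

set_option autoImplicit false

namespace Cfsg.Agent.H822.Cls

open scoped Pointwise commutatorElement

universe u

section Count

variable {G : Type u} [Group G] [Finite G]

/-- The elements whose class size is prime to `p` are at most half of the group when `N(P) ≠ C(P)`. -/
theorem card_unmoved (p : ℕ) [Fact p.Prime] (P : Sylow p G)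
    (hNC : ¬ Subgroup.normalizer ((P : Subgroup G) : Set G) ≤
      Subgroup.centralizer ((P : Subgroup G) : Set G)) :
    2 * Nat.card {g : G // ¬ Moved p g} ≤ Nat.card G := by
  classical
  set N := Subgroup.normalizer ((P : Subgroup G) : Set G) with hN
  set C := Subgroup.centralizer ((P : Subgroup G) : Set G) with hC
  have hCN : C ≤ N := Subgroup.centralizer_le_normalizer _
  have h2 : 2 * Nat.card C ≤ Nat.card N := by
    have hd : Nat.card C ∣ Nat.card N := Subgroup.card_dvd_of_le hCN
    obtain ⟨k, hk⟩ := hd
    have hk0 : k ≠ 0 := by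
      rintro rfl
      simp at hk
      exact (Nat.card_pos (α := N)).ne' hk
    have hk1 : k ≠ 1 := by
      rintro rfl
      apply hNC
      have : C = N := Subgroup.eq_of_le_of_card_ge hCN (by omega)
      exact this.ge
    have : 2 ≤ k := by omega
    rw [hk, mul_comm]
    exact Nat.mul_le_mul_left _ this
  have hinj : Nat.card {g : G // ¬ Moved p g} ≤ Nat.card (Sylow p G) * Nat.card C := by
    have key : ∀ g : {g : G // ¬ Moved p g},
        ∃ Q : Sylow p G, (Q : Subgroup G) ≤ Subgroup.centralizer ({g.1} : Set G) :=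
      fun g => S4149.exists_sylow_le_centralizer p _ g.2
    choose Q hQ using key
    have key2 : ∀ Q : Sylow p G, ∃ x : G, x • P = Q := fun Q => MulAction.exists_smul_eq G P Q
    choose x hx using key2
    let f : {g : G // ¬ Moved p g} → Sylow p G × C :=
      fun g => ⟨Q g, ⟨(x (Q g))⁻¹ * g.1 * x (Q g), by
        rw [hC, Subgroup.mem_centralizer_iff]
        intro h hh
        have h1 : x (Q g) * h * (x (Q g))⁻¹ ∈ ((Q g : Sylow p G) : Subgroup G) := by
          have h0 : ((Q g : Sylow p G) : Subgroup G) = MulAut.conj (x (Q g)) • (P : Subgroup G) := by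
            rw [← Sylow.coe_subgroup_smul]
            exact congrArg _ (hx (Q g)).symm
          rw [h0]
          have h2 := Subgroup.smul_mem_pointwise_smul h (MulAut.conj (x (Q g))) (P : Subgroup G) hh
          simpa using h2
        have h3 := hQ g h1
        rw [Subgroup.mem_centralizer_singleton_iff] at h3
        have h4 : x (Q g) * h * (x (Q g))⁻¹ * g.1 = g.1 * (x (Q g) * h * (x (Q g))⁻¹) := h3
        calc h * ((x (Q g))⁻¹ * g.1 * x (Q g)) = (x (Q g))⁻¹ * (x (Q g) * h * (x (Q g))⁻¹ * g.1) * x (Q g) := by group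
          _ = (x (Q g))⁻¹ * (g.1 * (x (Q g) * h * (x (Q g))⁻¹)) * x (Q g) := by rw [h4]
          _ = (x (Q g))⁻¹ * g.1 * x (Q g) * h := by group⟩⟩
    have hf : Function.Injective f := by
      intro a b hab
      have h1 : Q a = Q b := congrArg Prod.fst hab
      have h2 : (x (Q a))⁻¹ * a.1 * x (Q a) = (x (Q b))⁻¹ * b.1 * x (Q b) :=
        congrArg (fun z : Sylow p G × C => (z.2 : G)) hab
      rw [h1] at h2
      apply Subtype.ext
      exact mul_left_cancel (mul_right_cancel h2)
    have := Nat.card_le_card_of_injective f hf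
    rwa [Nat.card_prod] at this
  have hidx : Nat.card (Sylow p G) = N.index := Sylow.card_eq_index_normalizer P
  calc 2 * Nat.card {g : G // ¬ Moved p g}
      ≤ 2 * (Nat.card (Sylow p G) * Nat.card C) := Nat.mul_le_mul_left _ hinj
    _ = N.index * (2 * Nat.card C) := by rw [hidx]; ring
    _ ≤ N.index * Nat.card N := Nat.mul_le_mul_left _ h2
    _ = Nat.card G := Subgroup.index_mul_card N

theorem card_moved_le {σ : ℕ}
    (hσ : ∀ x : G, ((Subgroup.centralizer ({x} : Set G)).index).primeFactors.card ≤ σ) (S : Finset ℕ)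
    (hS : ∀ p ∈ S, p.Prime) (x : G) (h : ∀ p ∈ S, Moved p x) : S.card ≤ σ := by
  refine le_trans (Finset.card_le_card ?_) (hσ x)
  intro p hp
  rw [Nat.mem_primeFactors]
  exact ⟨hS p hp, h p hp, Subgroup.index_ne_zero_of_finite⟩

theorem not_moved_one {p : ℕ} (hp : p.Prime) : ¬ Moved p (1 : G) := by
  intro h
  unfold Moved at h
  have h1 : Subgroup.centralizer ({1} : Set G) = ⊤ := by
    rw [eq_top_iff]
    intro g _
    rw [Subgroup.mem_centralizer_singleton_iff]
    simp
  rw [h1, Subgroup.index_top] at h
  exact hp.one_lt.ne' (Nat.dvd_one.1 h)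

/-- The primes with `N(P) ≠ C(P)` : fewer than `2 σ`. -/
theorem card_B {σ : ℕ} (h1 : 1 ≤ σ)
    (hσ : ∀ x : G, ((Subgroup.centralizer ({x} : Set G)).index).primeFactors.card ≤ σ) (B : Finset ℕ)
    (hB : ∀ p ∈ B, p.Prime ∧ ∃ P : Sylow p G, ¬ Subgroup.normalizer ((P : Subgroup G) : Set G) ≤
      Subgroup.centralizer ((P : Subgroup G) : Set G)) : B.card + 1 ≤ 2 * σ := by
  classical
  have : Fintype G := Fintype.ofFinite G
  have hG : (Finset.univ : Finset G).card = Nat.card G := by
    rw [Nat.card_eq_fintype_card, Finset.card_univ]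
  -- double counting
  have hdc : ∑ p ∈ B, (Finset.univ.filter fun g : G => Moved p g).card =
      ∑ g : G, (B.filter fun p => Moved p g).card := by
    simp only [Finset.card_filter]
    exact Finset.sum_comm
  have hlow : ∀ p ∈ B, Nat.card G ≤ 2 * (Finset.univ.filter fun g : G => Moved p g).card := by
    intro p hp
    obtain ⟨hpp, P, hP⟩ := hB p hp
    have : Fact p.Prime := ⟨hpp⟩
    have h2 := card_unmoved p P hP
    have h3 := Finset.card_filter_add_card_filter_not (s := (Finset.univ : Finset G)) (fun g => Moved p g)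
    have h4 : Nat.card {g : G // ¬ Moved p g} = (Finset.univ.filter fun g : G => ¬ Moved p g).card := by
      rw [Nat.card_eq_fintype_card, Fintype.card_subtype]
    omega
  have hup : ∑ g : G, (B.filter fun p => Moved p g).card + σ ≤ Nat.card G * σ := by
    have h2 : ∀ g : G, (B.filter fun p => Moved p g).card ≤ if g = 1 then 0 else σ := by
      intro g
      split_ifs with h
      · subst h
        rw [Nat.le_zero, Finset.card_eq_zero, Finset.filter_eq_empty_iff]
        intro p hp
        exact not_moved_one (hB p hp).1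
      · exact card_moved_le hσ _ (fun p hp => (hB p (Finset.mem_filter.1 hp).1).1) g
          (fun p hp => (Finset.mem_filter.1 hp).2)
    have h3 : ∑ g : G, (if g = 1 then 0 else σ) + σ = Nat.card G * σ := by
      have h4 : ∑ g : G, (if g = 1 then σ else 0) = σ := by simp
      have h5 : ∑ g : G, (if g = 1 then 0 else σ) + ∑ g : G, (if g = 1 then σ else 0) = Nat.card G * σ := by
        rw [← Finset.sum_add_distrib, ← hG, ← smul_eq_mul, ← Finset.sum_const]
        refine Finset.sum_congr rfl fun g _ => ?_
        split_ifs <;> simp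
      rw [h4] at h5
      exact h5
    calc ∑ g : G, (B.filter fun p => Moved p g).card + σ
        ≤ ∑ g : G, (if g = 1 then 0 else σ) + σ := Nat.add_le_add_right (Finset.sum_le_sum fun g _ => h2 g) _
      _ = _ := h3
  have h5 : B.card * Nat.card G ≤ 2 * ∑ p ∈ B, (Finset.univ.filter fun g : G => Moved p g).card := by
    rw [Finset.mul_sum]
    calc B.card * Nat.card G = ∑ p ∈ B, Nat.card G := by rw [Finset.sum_const, smul_eq_mul]
      _ ≤ _ := Finset.sum_le_sum hlow
  rw [hdc] at h5
  have h6 : B.card * Nat.card G < 2 * σ * Nat.card G := by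
    have : 2 * σ * Nat.card G = 2 * (Nat.card G * σ) := by ring
    rw [this]
    omega
  have := lt_of_mul_lt_mul_right h6 (Nat.zero_le _)
  omega

end Count

end Cfsg.Agent.H822.Cls
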