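import Cfsg.Agent.H822.Cls.Props

/-!
# Numerical data of a primitive solvable linear group
-/

set_option autoImplicit false

namespace Cfsg.Agent.H822.Cls

open scoped Pointwise commutatorElement

universe u

/-- `x` acts trivially on the `q`-part of `S / A` -/
def Prim.Triv {L U F : Type*} [Group L] [AddCommGroup U] [DistribMulAction L U] [Field F] [Module F U]
    (D : Prim L U F) (q : ℕ) (x : L) : Prop := ∀ s ∈ D.S, s ^ q ∈ D.A → x * s * x⁻¹ * s⁻¹ ∈ D.A

/-- numerical data of `S / A` : its order is the square of `e = ∏ q ^ m q ≤ dim_F U` -/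
structure Prim.Num {L U F : Type*} [Group L] [AddCommGroup U] [DistribMulAction L U] [Field F] [Module F U]
    (D : Prim L U F) (Q : Finset ℕ) (m : ℕ → ℕ) : Prop where
  prime : ∀ q ∈ Q, q.Prime
  one_le : ∀ q ∈ Q, 1 ≤ m q
  dvd : ∀ q ∈ Q, q ∣ Nat.card F - 1
  triv : ∀ q : ℕ, q.Prime → q ∉ Q → ∀ s ∈ D.S, s ^ q ∈ D.A → s ∈ D.A
  card_part : ∀ q ∈ Q, ∀ X : Subgroup L, (∀ s : L, s ∈ X ↔ s ∈ D.S ∧ s ^ q ∈ D.A) → D.A.relIndex X = q ^ (2 * m q)
  relIndex : D.A.relIndex D.S = (∏ q ∈ Q, q ^ m q) ^ 2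
  le_finrank : ∏ q ∈ Q, q ^ m q ≤ Module.finrank F U

/-- dimension bound for a faithful module of a solvable `q'`-group with nonnormal Sylow `p`-subgroup -/
def LemD : Prop := ∀ (q p : ℕ), q.Prime → p.Prime → ∀ (D : Type u) [Group D] [Finite D] [Group.IsSolvable D],
    ¬ q ∣ Nat.card D → ∀ (X : Type u) [AddCommGroup X] [Finite X] [DistribMulAction D X], (∀ x : X, q • x = 0) →
    (∀ g : D, (∀ x : X, g • x = x) → g = 1) → ∀ P : Sylow p D, ¬ (P : Subgroup D).Normal → ∀ n : ℕ,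
    Nat.card X = q ^ n → p ≤ n ∨ (n + 1 = p ∧ ∃ k : ℕ, n = 2 ^ k)

/-- the version for symplectic modules of groups of odd order in characteristic two -/
def LemDTwo : Prop := ∀ (p : ℕ), p.Prime → ∀ (D : Type u) [Group D] [Finite D], Odd (Nat.card D) →
    ∀ (X : Type u) [AddCommGroup X] [Finite X] [DistribMulAction D X], (∀ x : X, 2 • x = 0) →
    (∀ g : D, (∀ x : X, g • x = x) → g = 1) → ∀ β : X → X → ZMod 2,
    (∀ x y z, β (x + y) z = β x z + β y z) → (∀ x y z, β x (y + z) = β x y + β x z) →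
    (∀ x, (∀ y, β x y = 0) → x = 0) → (∀ (g : D) (x y : X), β (g • x) (g • y) = β x y) → ∀ P : Sylow p D,
    ¬ (P : Subgroup D).Normal → ∀ n : ℕ, Nat.card X = 2 ^ n → 2 * p ≤ n

/-- existence of the numerical data -/
def ExistsNum : Prop := ∀ (L U F : Type u) [Group L] [Finite L] [AddCommGroup U] [Finite U] [Nontrivial U]
    [DistribMulAction L U] [Field F] [Finite F] [Module F U] (D : Prim L U F),
    ∃ (Q : Finset ℕ) (m : ℕ → ℕ), D.Num Q m

/-- bound for a group of automorphisms of `S / A` -/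
def RelIndexLe : Prop := ∀ (L U F : Type u) [Group L] [Finite L] [AddCommGroup U] [Finite U] [Nontrivial U]
    [DistribMulAction L U] [Field F] [Finite F] [Module F U] (D : Prim L U F) (Q : Finset ℕ) (m : ℕ → ℕ),
    D.Num Q m → ∀ E : Subgroup L, E ≤ Subgroup.centralizer (D.A : Set L) → ∀ I : Finset ℕ, I ⊆ Q →
    (∀ q ∈ Q, q ∉ I → ∀ x ∈ E, D.Triv q x) → D.S.relIndex E ≤ ∏ q ∈ I, q ^ (4 * m q ^ 2)

/-- dimension bounds for the parts on which `[M, P]` is nontrivial -/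
def DimBound : Prop := ∀ (L U F : Type u) [Group L] [Finite L] [Group.IsSolvable L] [AddCommGroup U] [Finite U]
    [Nontrivial U] [DistribMulAction L U] [Field F] [Finite F] [Module F U] (D : Prim L U F) (Q : Finset ℕ)
    (m : ℕ → ℕ), D.Num Q m → ∀ M H : Subgroup L, Split M H → ∀ p : ℕ, p.Prime → p ≠ 2 → p ∣ Nat.card H →
    ∀ (P : Sylow p L) (q : ℕ), q ∈ Q → (¬ ∀ x ∈ ⁅M, (P : Subgroup L)⁆, D.Triv q x) →
    q ≠ p ∧ (q = 2 → p ≤ m 2) ∧ (q ≠ 2 → p ≤ 2 * m q + 1 ∧ (p = 7 → 4 ≤ m q))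

end Cfsg.Agent.H822.Cls
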