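import Cfsg.Agent.H822.Cls.SplitBasic
import Cfsg.Agent.H822.Cls.PrimDefs

/-!
# Counting in the primitive case
-/

set_option autoImplicit false
set_option linter.unusedSectionVars false

namespace Cfsg.Agent.H822.Cls

open scoped Pointwise commutatorElement

universe u

theorem ringEquiv_comm {F : Type*} [Field F] [Finite F] (σ τ : F ≃+* F) : σ * τ = τ * σ := by
  obtain ⟨p, hpc⟩ := CharP.exists F
  have : CharP F p := hpc
  have hp : Fact p.Prime := ⟨CharP.char_is_prime F p⟩
  let _ : Algebra (ZMod p) F := ZMod.algebra F p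
  have hcomm : ∀ (ρ : F ≃+* F) (r : ZMod p), ρ (algebraMap (ZMod p) F r) = algebraMap (ZMod p) F r := by
    intro ρ r
    obtain ⟨n, rfl⟩ := ZMod.natCast_zmod_surjective r
    rw [map_natCast, map_natCast]
  let σ' : F ≃ₐ[ZMod p] F := AlgEquiv.ofRingEquiv (f := σ) (hcomm σ)
  let τ' : F ≃ₐ[ZMod p] F := AlgEquiv.ofRingEquiv (f := τ) (hcomm τ)
  have h : σ' * τ' = τ' * σ' := by
    let _ := IsCyclic.commGroup (α := Gal(F/ZMod p))
    exact mul_comm _ _
  ext x
  exact DFunLike.congr_fun h x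

section PrimFacts

variable {L U F : Type u} [Group L] [Finite L] [AddCommGroup U] [Finite U] [Nontrivial U]
  [DistribMulAction L U] [Field F] [Finite F] [Module F U] (D : Prim L U F)

theorem Prim.commutator_le (X Y : Subgroup L) : ⁅X, Y⁆ ≤ Subgroup.centralizer (D.A : Set L) := by
  rw [Subgroup.commutator_le, ← D.σ_ker]
  intro x _ y _
  rw [MonoidHom.mem_ker, map_commutatorElement, commutatorElement_eq_one_iff_mul_comm]
  exact ringEquiv_comm _ _

theorem Prim.isNilpotent_of_le (E : Subgroup L) (hE : E ≤ D.S) : Group.IsNilpotent E := by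
  have hAn := D.A_normal
  have hn : (D.A.subgroupOf E).Normal := inferInstance
  have hcomm : ∀ a b : E ⧸ D.A.subgroupOf E, a * b = b * a := by
    intro a b
    obtain ⟨x, rfl⟩ := QuotientGroup.mk_surjective a
    obtain ⟨y, rfl⟩ := QuotientGroup.mk_surjective b
    rw [← QuotientGroup.mk_mul, ← QuotientGroup.mk_mul, eq_comm, QuotientGroup.eq, Subgroup.mem_subgroupOf]
    have h1 := D.comm_mem _ (D.S.inv_mem (hE x.2)) _ (D.S.inv_mem (hE y.2))
    have h2 : (((y * x)⁻¹ * (x * y) : E) : L) = (x : L)⁻¹ * (y : L)⁻¹ * (x : L)⁻¹⁻¹ * (y : L)⁻¹⁻¹ := by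
      simp only [Subgroup.coe_mul, Subgroup.coe_inv, inv_inv]
      group
    rw [h2]
    exact h1
  have hnil : Group.IsNilpotent (E ⧸ D.A.subgroupOf E) := by
    let _ : CommGroup (E ⧸ D.A.subgroupOf E) := { (inferInstance : Group (E ⧸ D.A.subgroupOf E)) with mul_comm := hcomm }
    infer_instance
  refine Subgroup.isNilpotent_of_ker_le_center (QuotientGroup.mk' (D.A.subgroupOf E)) ?_
  rw [QuotientGroup.ker_mk']
  intro a ha
  rw [Subgroup.mem_subgroupOf] at ha
  rw [Subgroup.mem_center_iff]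
  intro g
  apply Subtype.ext
  exact (Subgroup.mem_centralizer_iff.1 (D.S_le (hE g.2)) _ ha).symm

/-- The commutator `[E, P]` lies in `S` when `P` acts trivially on `S / A`. -/
theorem Prim.commutator_le_S (E P : Subgroup L) (hE : E ≤ Subgroup.centralizer (D.A : Set L))
    (hEn : E.Normal)
    (hP : ∀ g ∈ P, ∀ s ∈ D.S, g * s * g⁻¹ * s⁻¹ ∈ D.A) : ⁅E, P⁆ ≤ D.S := by
  have hAn := D.A_normal
  have hSn := D.S_normal
  rw [Subgroup.commutator_le]
  intro e he g hg
  apply D.dual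
  · exact Subgroup.commutator_le_left E P (Subgroup.commutator_mem_commutator he hg) |> fun h => hE h
  · intro s hs
    rw [commutatorElement_def]
    -- `e g e⁻¹ g⁻¹ s g e g⁻¹ e⁻¹ s⁻¹ ∈ A`
    have key : ∀ x ∈ P, ∀ t ∈ D.S, ∃ a ∈ D.A, x * t * x⁻¹ = a * t := by
      intro x hx t ht
      refine ⟨_, hP x hx t ht, ?_⟩
      group
    -- conjugation by `g⁻¹`, `e⁻¹`, `g`, `e`
    obtain ⟨a1, ha1, h1⟩ := key g⁻¹ (P.inv_mem hg) s hs
    have hs2 : e⁻¹ * s * e ∈ D.S := by
      have := hSn.conj_mem s hs e⁻¹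
      rwa [inv_inv] at this
    obtain ⟨a2, ha2, h2⟩ := key g hg (e⁻¹ * s * e) hs2
    rw [inv_inv] at h1
    have e1 : e * g * e⁻¹ * g⁻¹ * s * (e * g * e⁻¹ * g⁻¹)⁻¹ * s⁻¹ =
        e * (g * (e⁻¹ * (g⁻¹ * s * g) * e) * g⁻¹) * e⁻¹ * s⁻¹ := by group
    rw [e1, h1]
    have ha1' : e⁻¹ * a1 * e = a1 := by
      have := Subgroup.mem_centralizer_iff.1 (hE he) a1 ha1
      rw [mul_assoc, this, inv_mul_cancel_left]
    have e2 : g * (e⁻¹ * (a1 * s) * e) * g⁻¹ = (g * a1 * g⁻¹) * (g * (e⁻¹ * s * e) * g⁻¹) := by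
      have : e⁻¹ * (a1 * s) * e = (e⁻¹ * a1 * e) * (e⁻¹ * s * e) := by group
      rw [this, ha1']
      group
    rw [e2, h2]
    have h3 : g * a1 * g⁻¹ ∈ D.A := hAn.conj_mem _ ha1 g
    have e3 : e * (g * a1 * g⁻¹ * (a2 * (e⁻¹ * s * e))) * e⁻¹ * s⁻¹ = e * (g * a1 * g⁻¹ * a2) * e⁻¹ := by group
    rw [e3]
    exact hAn.conj_mem _ (D.A.mul_mem h3 ha2) e

/-- The Sylow subgroups are conjugate under `[M, P]`. -/
theorem sylow_conj_E {M H : Subgroup L} (hS : Split M H) {p : ℕ} (hp : p.Prime) (hpH : p ∣ Nat.card H)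
    (P Q : Sylow p L) : ∃ e ∈ ⁅M, (P : Subgroup L)⁆, e • P = Q := by
  have : Fact p.Prime := ⟨hp⟩
  have hMn := hS.normal
  obtain ⟨P0, hP0⟩ := hS.exists_sylow hp hpH
  have hpM : ¬ p ∣ Nat.card M := fun h => hp.one_lt.ne' (Nat.eq_one_of_dvd_coprimes hS.cop h hpH)
  -- every Sylow is `[M, P0]`-conjugate to `P0`
  have key : ∀ Q : Sylow p L, ∃ e ∈ ⁅M, (P0 : Subgroup L)⁆, e • P0 = Q := by
    intro Q
    obtain ⟨k, hk, hkQ⟩ := hS.sylow_conj hp P0 Q hP0
    obtain ⟨m, hm, c, hc, rfl⟩ := Lib.CoprimeCommutator.exists_commutator_mul_fixed_of_isPGroup p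
      (P0 : Subgroup L) M P0.isPGroup' (by rw [Subgroup.normalizer_eq_top]; exact le_top) hpM k hk
    refine ⟨m, hm, ?_⟩
    have hcc := Subgroup.mem_centralizer_iff.1 (Subgroup.mem_inf.1 hc).2
    apply Sylow.ext
    ext y
    rw [Sylow.coe_subgroup_smul, Subgroup.mem_pointwise_smul_iff_inv_smul_mem]
    simp only [MulAut.smul_def, MulAut.inv_def]
    rw [MulAut.conj_symm_apply]
    have h1 := hkQ y
    have h2 : (m * c)⁻¹ * y * (m * c) = c⁻¹ * (m⁻¹ * y * m) * c := by group
    rw [h2] at h1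
    change m⁻¹ * y * m ∈ P0 ↔ y ∈ Q
    constructor
    · intro h
      apply h1.2
      have h3 := hcc _ h
      rw [mul_assoc, h3, inv_mul_cancel_left]
      exact h
    · intro h
      have h4 := h1.1 h
      have h5 := hcc _ h4
      have h6 : m⁻¹ * y * m = c * (c⁻¹ * (m⁻¹ * y * m) * c) * c⁻¹ := by group
      rw [h6, ← h5, mul_inv_cancel_right]
      exact h4
  have hE := hS.commutator_eq' hp hpH P0 P
  rw [hE]
  obtain ⟨e1, he1, h1⟩ := key P
  obtain ⟨e2, he2, h2⟩ := key Q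
  refine ⟨e2 * e1⁻¹, Subgroup.mul_mem _ he2 (Subgroup.inv_mem _ he1), ?_⟩
  rw [← h1, mul_smul, inv_smul_smul, h2]

/-- The number of Sylow subgroups. -/
theorem card_sylow_le {M H : Subgroup L} (hS : Split M H) {p : ℕ} (hp : p.Prime) (hpH : p ∣ Nat.card H)
    (P : Sylow p L) (c : ℕ)
    (hc : ((P : Subgroup L) ≤ Subgroup.centralizer (D.A : Set L) ∧ c = 1) ∨ c = Nat.card F) :
    Nat.card (Sylow p L) ≤ c * (D.A.relIndex D.S * D.S.relIndex ⁅M, (P : Subgroup L)⁆) := by
  have : Fact p.Prime := ⟨hp⟩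
  set E := ⁅M, (P : Subgroup L)⁆ with hE
  have h1 : MulAction.orbit E P = Set.univ := by
    rw [Set.eq_univ_iff_forall]
    intro Q
    obtain ⟨e, he, h⟩ := sylow_conj_E hS hp hpH P Q
    exact ⟨⟨e, he⟩, h⟩
  have h2 : Nat.card (Sylow p L) = (MulAction.stabilizer E P).index := by
    rw [MulAction.index_stabilizer, h1, Set.ncard_univ]
  have h3 : D.A.relIndex E ≤ D.A.relIndex D.S * D.S.relIndex E := by
    have h4 := Subgroup.relIndex_inf_mul_relIndex D.A D.S E
    rw [inf_eq_left.2 D.A_le] at h4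
    rw [← h4]
    refine Nat.mul_le_mul_right _ ?_
    exact Subgroup.relIndex_le_of_le_right inf_le_left Subgroup.FiniteIndex.index_ne_zero
  rcases hc with ⟨hPA, rfl⟩ | rfl
  · rw [one_mul, h2]
    refine le_trans ?_ h3
    refine Nat.le_of_dvd (Nat.pos_of_ne_zero Subgroup.index_ne_zero_of_finite) (Subgroup.index_dvd_of_le ?_)
    intro a ha
    rw [Subgroup.mem_subgroupOf] at ha
    rw [MulAction.mem_stabilizer_iff]
    change (a : L) • P = P
    apply Sylow.ext
    ext y
    rw [Sylow.coe_subgroup_smul, Subgroup.mem_pointwise_smul_iff_inv_smul_mem]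
    simp only [MulAut.smul_def, MulAut.inv_def]
    rw [MulAut.conj_symm_apply]
    have hcomm : ∀ y ∈ P, (a : L) * y = y * a := fun y hy => Subgroup.mem_centralizer_iff.1 (hPA hy) a ha
    change (a : L)⁻¹ * y * a ∈ P ↔ y ∈ P
    constructor
    · intro h
      have h5 := hcomm _ h
      have h6 : y = a * ((a : L)⁻¹ * y * a) * (a : L)⁻¹ := by group
      rw [h6, h5, mul_inv_cancel_right]
      exact h
    · intro h
      rw [mul_assoc, ← hcomm y h, inv_mul_cancel_left]
      exact h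
  · rw [h2]
    have h4 : (MulAction.stabilizer E P).index ≤ Nat.card E :=
      Nat.le_of_dvd Nat.card_pos (Subgroup.index_dvd_card _)
    have h5 : Nat.card E = Nat.card (D.A.subgroupOf E) * D.A.relIndex E := (Subgroup.card_mul_index _).symm
    have h6 : Nat.card (D.A.subgroupOf E) ≤ Nat.card F := by
      have h7 : Nat.card (D.A.subgroupOf E) ≤ Nat.card D.A := by
        refine Nat.card_le_card_of_injective (fun a : D.A.subgroupOf E => (⟨(a : E), a.2⟩ : D.A)) ?_
        intro a b hab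
        have h : ((a : E) : L) = ((b : E) : L) := congrArg (fun z : D.A => (z : L)) hab
        exact Subtype.ext (Subtype.ext h)
      have h8 : Nat.card D.A ≤ Nat.card Fˣ := Nat.card_le_card_of_injective _ D.ι_inj
      have h9 : Nat.card Fˣ ≤ Nat.card F := Nat.card_le_card_of_injective _ Units.val_injective
      omega
    calc _ ≤ Nat.card E := h4
      _ = Nat.card (D.A.subgroupOf E) * D.A.relIndex E := h5
      _ ≤ Nat.card F * (D.A.relIndex D.S * D.S.relIndex E) := Nat.mul_le_mul h6 h3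

/-- The number of unmoved vectors. -/
theorem card_unmoved_le {p : ℕ} (hp : p.Prime) (P : Sylow p L) (g : L) (hg : g ∈ P) :
    Nat.card {u : U // ¬ p ∣ (MulAction.stabilizer L u).index} ≤
      Nat.card (Sylow p L) * Nat.card {u : U // g • u = u} := by
  have : Fact p.Prime := ⟨hp⟩
  have key : ∀ u : {u : U // ¬ p ∣ (MulAction.stabilizer L u).index},
      ∃ Q : Sylow p L, (Q : Subgroup L) ≤ MulAction.stabilizer L u.1 :=
    fun u => S4149.exists_sylow_le_centralizer p _ u.2
  choose Q hQ using key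
  have key2 : ∀ Q : Sylow p L, ∃ x : L, x • P = Q := fun Q => MulAction.exists_smul_eq L P Q
  choose x hx using key2
  let f : {u : U // ¬ p ∣ (MulAction.stabilizer L u).index} → Sylow p L × {u : U // g • u = u} :=
    fun u => ⟨Q u, ⟨(x (Q u))⁻¹ • u.1, by
      have h1 : x (Q u) * g * (x (Q u))⁻¹ ∈ ((Q u : Sylow p L) : Subgroup L) := by
        have h0 : ((Q u : Sylow p L) : Subgroup L) = MulAut.conj (x (Q u)) • (P : Subgroup L) := by
          rw [← Sylow.coe_subgroup_smul]
          exact congrArg _ (hx (Q u)).symm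
        rw [h0]
        have h2 := Subgroup.smul_mem_pointwise_smul g (MulAut.conj (x (Q u))) (P : Subgroup L) hg
        simpa using h2
      have h3 := hQ u h1
      rw [MulAction.mem_stabilizer_iff, mul_smul, mul_smul] at h3
      rw [eq_inv_smul_iff]
      exact h3⟩⟩
  have hf : Function.Injective f := by
    intro a b hab
    have h1 : Q a = Q b := congrArg Prod.fst hab
    have h2 : (x (Q a))⁻¹ • a.1 = (x (Q b))⁻¹ • b.1 :=
      congrArg (fun z : Sylow p L × {u : U // g • u = u} => (z.2 : U)) hab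
    rw [h1] at h2
    exact Subtype.ext (smul_left_cancel _ h2)
  have := Nat.card_le_card_of_injective f hf
  rwa [Nat.card_prod] at this

end PrimFacts

end Cfsg.Agent.H822.Cls
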