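import Cfsg.Agent.H822.Cls.PrimAux
import Cfsg.Agent.H822.Cls.Linear

/-!
# The primitive step from its parts
-/

set_option autoImplicit false
set_option linter.unusedSectionVars false

namespace Cfsg.Agent.H822.Cls

open scoped Pointwise commutatorElement

universe u

/-- construction of the primitive data -/
def ExistsPrim : Prop := ∀ (L U : Type u) [Group L] [Finite L] [Group.IsSolvable L] [AddCommGroup U] [Finite U]
    [Nontrivial U] [DistribMulAction L U] (r : ℕ), r.Prime → (∀ u : U, r • u = 0) →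
    (∀ g : L, (∀ u : U, g • u = u) → g = 1) → Irr L U → ¬ Imprim L U →
    ∃ (F : Type u) (_ : Field F) (_ : Finite F) (_ : Module F U), Nonempty (Prim L U F)

def FixedSq : Prop := ∀ (L U F : Type u) [Group L] [Finite L] [AddCommGroup U] [Finite U] [DistribMulAction L U]
    [Field F] [Finite F] [Module F U] (D : Prim L U F) (g : L),
    g ∈ Subgroup.centralizer (D.A : Set L) → Odd (orderOf g) → (orderOf g).Coprime (D.A.relIndex D.S) →
    (∃ s ∈ D.S, g * s * g⁻¹ * s⁻¹ ∉ D.A) → Nat.card {u : U // g • u = u} ^ 2 ≤ Nat.card U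

def FixedPow : Prop := ∀ (L U F : Type u) [Group L] [Finite L] [AddCommGroup U] [Finite U] [DistribMulAction L U]
    [Field F] [Finite F] [Module F U] (D : Prim L U F) (p : ℕ), p.Prime → ∀ g : L, (∃ k : ℕ, g ^ p ^ k = 1) →
    g ∉ Subgroup.centralizer (D.A : Set L) → Nat.card {u : U // g • u = u} ^ p ≤ Nat.card U

def Numeric : Prop := ∀ (Q I : Finset ℕ) (m : ℕ → ℕ) (f p : ℕ), (∀ q ∈ Q, q.Prime) → (∀ q ∈ Q, 1 ≤ m q) →
    I ⊆ Q → I.Nonempty → 2 ≤ f → (∀ q ∈ Q, q ∣ f - 1) → p.Prime → ¬ p ∣ f →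
    p ∉ Q → (2 ∈ I → p ≤ m 2) → (∀ q ∈ I, q ≠ 2 → p ≤ 2 * m q + 1) →
    (p = 7 → ∀ q ∈ I, q ≠ 2 → 4 ≤ m q) → Good p (f * ∏ q ∈ Q, q) →
    2 ^ (2 * p) * (∏ q ∈ Q, q ^ m q) ^ 4 * ∏ q ∈ I, q ^ (8 * m q ^ 2) ≤ f ^ (∏ q ∈ Q, q ^ m q)

def NotMem : Prop := ∀ (L U F : Type u) [Group L] [Finite L] [AddCommGroup U] [Finite U] [Nontrivial U]
    [DistribMulAction L U] [Field F] [Finite F] [Module F U] (D : Prim L U F) (Q : Finset ℕ)
    (m : ℕ → ℕ), D.Num Q m → ∀ M H : Subgroup L, Split M H → ∀ p : ℕ, p.Prime → p ∣ Nat.card H → p ∉ Q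

theorem ineq_one {a N W V p : ℕ} (h1 : a ≤ N * W) (h2 : W ^ 2 ≤ V) (h3 : 2 ^ (2 * p) * N ^ 2 ≤ V) :
    a * 2 ^ p ≤ V := by
  have h4 : (a * 2 ^ p) ^ 2 ≤ V ^ 2 := by
    calc (a * 2 ^ p) ^ 2 ≤ (N * W * 2 ^ p) ^ 2 := Nat.pow_le_pow_left (Nat.mul_le_mul_right _ h1) 2
      _ = (2 ^ (2 * p) * N ^ 2) * W ^ 2 := by rw [mul_pow, mul_pow, ← pow_mul, mul_comm p 2]; ring
      _ ≤ V * V := Nat.mul_le_mul h3 h2
      _ = V ^ 2 := by ring
  exact (Nat.pow_le_pow_iff_left two_ne_zero).1 h4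

theorem ineq_two {a N W f d p : ℕ} (hf : 1 ≤ f) (hd : 4 ≤ d) (hp : 5 ≤ p) (h1 : a ≤ f * N * W)
    (h2 : W ^ p ≤ f ^ d) (h3 : 2 ^ (2 * p) * N ^ 2 ≤ f ^ d) : a * 2 ^ p ≤ f ^ d := by
  have h4 : (a * 2 ^ p) ^ (2 * p) ≤ (f ^ d) ^ (2 * p) := by
    calc (a * 2 ^ p) ^ (2 * p) ≤ (f * N * W * 2 ^ p) ^ (2 * p) :=
          Nat.pow_le_pow_left (Nat.mul_le_mul_right _ h1) _
      _ = f ^ (2 * p) * (2 ^ (2 * p) * N ^ 2) ^ p * (W ^ p) ^ 2 := by
          simp only [mul_pow, ← pow_mul]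
          ring_nf
      _ ≤ f ^ (2 * p) * (f ^ d) ^ p * (f ^ d) ^ 2 := by
          gcongr
      _ = f ^ (2 * p + d * p + d * 2) := by rw [← pow_mul, ← pow_mul, ← pow_add, ← pow_add]
      _ ≤ f ^ (d * (2 * p)) := by
          refine Nat.pow_le_pow_right hf ?_
          nlinarith
      _ = (f ^ d) ^ (2 * p) := by rw [← pow_mul]
  exact (Nat.pow_le_pow_iff_left (by omega)).1 h4

section

variable {L U F : Type u} [Group L] [Finite L] [Group.IsSolvable L] [AddCommGroup U] [Finite U] [Nontrivial U]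
  [DistribMulAction L U] [Field F] [Finite F] [Module F U] (D : Prim L U F)

theorem bad_bound (hSq : FixedSq.{u}) (hPow : FixedPow.{u}) (hNumer : Numeric) (hNot : NotMem.{u})
    (hRel : RelIndexLe.{u}) (hDim : DimBound.{u}) {Q : Finset ℕ} {m : ℕ → ℕ} (hD : D.Num Q m) (M H : Subgroup L)
    (r n : ℕ) (hS : Split M H) (hr : r.Prime) (hrU : ∀ u : U, r • u = 0) (hrH : ¬ r ∣ Nat.card H)
    (hM : ∀ q : ℕ, q.Prime → q ∣ Nat.card M → q ∣ n) (hrn : r ∣ n) {p : ℕ} (hp : p.Prime)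
    (hpH : p ∣ Nat.card H) (hgood : Good p n) (P : Sylow p L)
    (hnil : ¬ Group.IsNilpotent (⁅M, (P : Subgroup L)⁆ : Subgroup L)) :
    Nat.card {u : U // ¬ p ∣ (MulAction.stabilizer L u).index} * 2 ^ p ≤ Nat.card U := by
  classical
  have hpf : Fact p.Prime := ⟨hp⟩
  have hrf : Fact r.Prime := ⟨hr⟩
  have hAn := D.A_normal
  have hSn := D.S_normal
  set E := ⁅M, (P : Subgroup L)⁆ with hE
  have hEn : E.Normal := hS.commutator_normal' hp hpH P
  have hEA : E ≤ Subgroup.centralizer (D.A : Set L) := D.commutator_le _ _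
  have hp5 : 5 ≤ p := hgood.1
  have hpQ : p ∉ Q := hNot L U F D Q m hD M H hS p hp hpH
  -- sizes
  have hfin : Module.Finite F U := Module.Finite.of_finite
  set f := Nat.card F with hf
  set d := Module.finrank F U with hd
  have hUcard : Nat.card U = f ^ d := Module.natCard_eq_pow_finrank (K := F) (V := U)
  have hf2 : 2 ≤ f := Finite.one_lt_card
  -- the characteristic
  have hrF : ∀ x : F, r • x = 0 := by
    intro x
    obtain ⟨u, hu⟩ := exists_ne (0 : U)
    have h1 : (r • (1 : F)) • u = 0 := by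
      rw [smul_assoc, one_smul]
      exact hrU u
    have h2 : r • (1 : F) = 0 := (smul_eq_zero.1 h1).resolve_right hu
    rw [← mul_one x, ← mul_smul_comm, h2, mul_zero]
  have hfr : ∀ q : ℕ, q.Prime → q ∣ f → q = r := by
    intro q hq hqf
    have : Fact q.Prime := ⟨hq⟩
    obtain ⟨x, hx⟩ := exists_prime_addOrderOf_dvd_card' q hqf
    have h1 : addOrderOf x ∣ r := addOrderOf_dvd_of_nsmul_eq_zero (hrF x)
    rw [hx] at h1
    exact (Nat.prime_dvd_prime_iff_eq hq hr).1 h1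
  have hpnf : ¬ p ∣ f := by
    intro h
    rw [← hfr p hp h] at hrH
    exact hrH hpH
  -- the primes in `Q` divide `n`
  have hQn : ∀ q ∈ Q, q ∣ n := by
    intro q hq
    have hqp := hD.prime q hq
    have h1 : q ∣ Nat.card L := by
      have h2 : q ∣ D.A.relIndex D.S := by
        rw [hD.relIndex]
        have h3 : q ∣ ∏ q ∈ Q, q ^ m q :=
          (dvd_pow_self q (by have := hD.one_le q hq; omega)).trans (Finset.dvd_prod_of_mem _ hq)
        exact h3.trans (dvd_pow_self _ two_ne_zero)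
      exact h2.trans ((Subgroup.relIndex_dvd_card _ _).trans (Subgroup.card_subgroup_dvd_card _))
    rw [hS.card, hqp.dvd_mul] at h1
    rcases h1 with h1 | h1
    · exact hM q hqp h1
    · exact absurd hq (hNot L U F D Q m hD M H hS q hqp h1)
  have hgood' : Good p (f * ∏ q ∈ Q, q) := by
    refine hgood.mono ?_
    intro q hq hqd
    rw [hq.dvd_mul] at hqd
    rcases hqd with h1 | h1
    · rw [hfr q hq h1]
      exact hrn
    · rw [Prime.dvd_finsetProd_iff hq.prime] at h1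
      obtain ⟨q', hq', h1⟩ := h1
      rw [(Nat.prime_dvd_prime_iff_eq hq (hD.prime q' hq')).1 h1]
      exact hQn q' hq'
  -- the set `I`
  set I := Q.filter fun q => ¬ ∀ x ∈ E, D.Triv q x with hI
  have hIQ : I ⊆ Q := Finset.filter_subset _ _
  have hrelI : D.S.relIndex E ≤ ∏ q ∈ I, q ^ (4 * m q ^ 2) := by
    refine hRel L U F D Q m hD E hEA I hIQ ?_
    intro q hq hqI
    by_contra hcon
    exact hqI (Finset.mem_filter.2 ⟨hq, hcon⟩)
  have hES : ¬ E ≤ D.S := fun h => hnil (D.isNilpotent_of_le E h)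
  have hIne : I.Nonempty := by
    by_contra hcon
    rw [Finset.not_nonempty_iff_eq_empty] at hcon
    rw [hcon, Finset.prod_empty] at hrelI
    apply hES
    rw [← Subgroup.relIndex_eq_one]
    have : D.S.relIndex E ≠ 0 := Subgroup.FiniteIndex.index_ne_zero
    omega
  have hdim : ∀ q ∈ I, q ≠ p ∧ (q = 2 → p ≤ m 2) ∧ (q ≠ 2 → p ≤ 2 * m q + 1 ∧ (p = 7 → 4 ≤ m q)) := by
    intro q hq
    obtain ⟨h1, h2⟩ := Finset.mem_filter.1 hq
    exact hDim L U F D Q m hD M H hS p hp (by omega) hpH P q h1 h2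
  have hnum := hNumer Q I m f p hD.prime hD.one_le hIQ hIne hf2 hD.dvd hp hpnf hpQ
    (fun h => (hdim 2 h).2.1 rfl) (fun q hq h => ((hdim q hq).2.2 h).1)
    (fun h7 q hq h => ((hdim q hq).2.2 h).2 h7) hgood'
  set e := ∏ q ∈ Q, q ^ m q with he
  have hed : e ≤ d := hD.le_finrank
  set N := e ^ 2 * ∏ q ∈ I, q ^ (4 * m q ^ 2) with hN
  have hN2 : 2 ^ (2 * p) * N ^ 2 ≤ f ^ d := by
    have h1 : N ^ 2 = e ^ 4 * ∏ q ∈ I, q ^ (8 * m q ^ 2) := by
      have h2 : (∏ q ∈ I, q ^ (4 * m q ^ 2)) ^ 2 = ∏ q ∈ I, q ^ (8 * m q ^ 2) := by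
        rw [← Finset.prod_pow]
        refine Finset.prod_congr rfl fun q _ => ?_
        rw [← pow_mul]
        congr 1
        ring
      rw [hN, mul_pow, ← pow_mul, h2]
    rw [h1, ← mul_assoc]
    exact hnum.trans (Nat.pow_le_pow_right (by omega) hed)
  have hd4 : 4 ≤ d := by
    obtain ⟨q, hq⟩ := hIne
    have hqQ := hIQ hq
    have hqp := hD.prime q hqQ
    have h1 : q ^ m q ≤ e := by
      refine Nat.le_of_dvd (Finset.prod_pos fun q hq => pow_pos (hD.prime q hq).pos _) ?_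
      exact Finset.dvd_prod_of_mem (fun q => q ^ m q) hqQ
    have h2 : 2 ≤ m q := by
      by_cases hq2 : q = 2
      · subst hq2
        have := (hdim 2 hq).2.1 rfl
        omega
      · have := ((hdim q hq).2.2 hq2).1
        omega
    have h3 : 4 ≤ q ^ m q := by
      calc 4 = 2 ^ 2 := by norm_num
        _ ≤ q ^ 2 := Nat.pow_le_pow_left hqp.two_le 2
        _ ≤ q ^ m q := Nat.pow_le_pow_right hqp.pos h2
    omega
  have hAS : D.A.relIndex D.S = e ^ 2 := hD.relIndex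
  -- the two cases
  by_cases hPA : (P : Subgroup L) ≤ Subgroup.centralizer (D.A : Set L)
  · -- an element acting nontrivially on `S / A`
    obtain ⟨g, hgP, s, hs, hgs⟩ : ∃ g ∈ P, ∃ s ∈ D.S, g * s * g⁻¹ * s⁻¹ ∉ D.A := by
      by_contra hcon
      push Not at hcon
      apply hES
      have h1 := D.commutator_le_S E (P : Subgroup L) hEA hEn (fun g hg s hs => hcon g hg s hs)
      rwa [hE, hS.commutator_commutator hp hpH P] at h1
    have hgo : ∃ k, orderOf g = p ^ k := by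
      obtain ⟨k, hk⟩ := (IsPGroup.iff_orderOf.1 P.isPGroup') ⟨g, hgP⟩
      exact ⟨k, by rw [← hk, Subgroup.orderOf_mk]⟩
    obtain ⟨k, hk⟩ := hgo
    have h1 := hSq L U F D g (hPA hgP) (by rw [hk]; exact (hp.odd_of_ne_two (by omega)).pow)
      (by
        rw [hk, hAS]
        refine Nat.Coprime.pow_left _ (Nat.Coprime.pow_right _ ?_)
        rw [he]
        refine Nat.Coprime.prod_right fun q hq => Nat.Coprime.pow_right _ ?_
        rw [Nat.coprime_primes hp (hD.prime q hq)]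
        rintro rfl
        exact hpQ hq) ⟨s, hs, hgs⟩
    have h2 := card_unmoved_le (U := U) hp P g hgP
    have h3 := card_sylow_le D hS hp hpH P 1 (Or.inl ⟨hPA, rfl⟩)
    rw [one_mul, hAS] at h3
    have h4 : Nat.card (Sylow p L) ≤ N := h3.trans (Nat.mul_le_mul_left _ hrelI)
    refine ineq_one (h2.trans (Nat.mul_le_mul_right _ h4)) h1 ?_
    rw [hUcard]
    exact hN2
  · obtain ⟨g, hgP, hgA⟩ : ∃ g ∈ P, g ∉ Subgroup.centralizer (D.A : Set L) := by
      by_contra hcon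
      push Not at hcon
      exact hPA hcon
    obtain ⟨k, hk⟩ := P.isPGroup' ⟨g, hgP⟩
    have h1 := hPow L U F D p hp g ⟨k, congrArg Subtype.val hk⟩ hgA
    have h2 := card_unmoved_le (U := U) hp P g hgP
    have h3 := card_sylow_le D hS hp hpH P (Nat.card F) (Or.inr rfl)
    rw [hAS, ← hf] at h3
    have h4 : Nat.card (Sylow p L) ≤ f * N := h3.trans (Nat.mul_le_mul_left _ (Nat.mul_le_mul_left _ hrelI))
    rw [hUcard] at h1 ⊢
    exact ineq_two (by omega) hd4 hp5 (h2.trans (Nat.mul_le_mul_right _ h4)) h1 hN2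

end

/-- the union bound -/
theorem exists_avoid {U : Type u} [Finite U] (T : Finset ℕ) (hT : ∀ p ∈ T, 1 ≤ p) (B : ℕ → Set U)
    (hB : ∀ p ∈ T, Nat.card (B p) * 2 ^ p ≤ Nat.card U) [Nonempty U] : ∃ u : U, ∀ p ∈ T, u ∉ B p := by
  classical
  by_contra hcon
  push Not at hcon
  have := Fintype.ofFinite U
  have h1 : (Finset.univ : Finset U) ⊆ T.biUnion fun p => Finset.univ.filter fun u => u ∈ B p := by
    intro u _
    obtain ⟨p, hp, hu⟩ := hcon u
    exact Finset.mem_biUnion.2 ⟨p, hp, Finset.mem_filter.2 ⟨Finset.mem_univ _, hu⟩⟩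
  have h2 : Nat.card U ≤ ∑ p ∈ T, Nat.card (B p) := by
    have h3 := (Finset.card_le_card h1).trans Finset.card_biUnion_le
    rw [Finset.card_univ, ← Nat.card_eq_fintype_card] at h3
    refine h3.trans (Finset.sum_le_sum fun p _ => ?_)
    rw [Nat.card_eq_fintype_card, Fintype.card_subtype]
  have hpos : 0 < Nat.card U := Nat.card_pos
  have h4 : ∀ p ∈ T, (Nat.card (B p) : ℚ) ≤ Nat.card U * (1 / 2) ^ p := by
    intro p hp
    have h5 : (Nat.card (B p) : ℚ) * 2 ^ p ≤ Nat.card U := by exact_mod_cast hB p hp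
    rw [one_div, inv_pow, ← div_eq_mul_inv, le_div_iff₀ (by positivity)]
    exact h5
  have h5 : (Nat.card U : ℚ) ≤ ∑ p ∈ T, (Nat.card U : ℚ) * (1 / 2) ^ p := by
    calc (Nat.card U : ℚ) ≤ ((∑ p ∈ T, Nat.card (B p) : ℕ) : ℚ) := by exact_mod_cast h2
      _ = ∑ p ∈ T, (Nat.card (B p) : ℚ) := by push_cast; rfl
      _ ≤ _ := Finset.sum_le_sum h4
  rw [← Finset.mul_sum] at h5
  obtain ⟨N, hN⟩ : ∃ N, T ⊆ (Finset.range N).erase 0 := by
    refine ⟨T.sup id + 1, fun p hp => ?_⟩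
    rw [Finset.mem_erase, Finset.mem_range]
    refine ⟨by have := hT p hp; omega, ?_⟩
    have : p ≤ T.sup id := Finset.le_sup (f := id) hp
    omega
  have h6 : ∑ p ∈ T, ((1 : ℚ) / 2) ^ p < 1 := by
    refine lt_of_le_of_lt (Finset.sum_le_sum_of_subset_of_nonneg hN (fun _ _ _ => by positivity)) ?_
    rcases Nat.eq_zero_or_pos N with rfl | hN0
    · simp
    · have h7 : ∑ i ∈ Finset.range N, ((1 : ℚ) / 2) ^ i = 2 - 2 * (1 / 2) ^ N := by
        rw [geom_sum_eq (by norm_num)]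
        field_simp
        ring
      have h8 : ∑ i ∈ (Finset.range N).erase 0, ((1 : ℚ) / 2) ^ i + ((1 : ℚ) / 2) ^ 0 =
          ∑ i ∈ Finset.range N, ((1 : ℚ) / 2) ^ i :=
        Finset.sum_erase_add _ _ (Finset.mem_range.2 hN0)
      have h9 : (0 : ℚ) < (1 / 2) ^ N := by positivity
      rw [h7, pow_zero] at h8
      linarith
  have hU : (0 : ℚ) < Nat.card U := by exact_mod_cast hpos
  nlinarith

theorem primStep (hPrim : ExistsPrim.{u}) (hNum : ExistsNum.{u}) (hSq : FixedSq.{u}) (hPow : FixedPow.{u})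
    (hNumer : Numeric) (hNot : NotMem.{u}) (hRel : RelIndexLe.{u}) (hDim : DimBound.{u}) : PrimStep.{u} := by
  classical
  intro L U _ _ _ _ _ _ _ M H r n hS hr hrU hrH hirr hM hrn hfaith hI
  obtain ⟨F, _, _, _, ⟨D⟩⟩ := hPrim L U r hr hrU hfaith hirr hI
  obtain ⟨Q, m, hD⟩ := hNum L U F D
  -- the bad primes
  set T := (Nat.card H).primeFactors.filter fun p => Good p n ∧ ∃ P : Sylow p L,
    ¬ Group.IsNilpotent ((⁅M, (P : Subgroup L)⁆).map (DistribMulAction.toAddAut L U)) with hT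
  have hinj : Function.Injective (DistribMulAction.toAddAut L U) := by
    rw [injective_iff_map_eq_one]
    intro g hg
    apply hfaith
    intro u
    exact DFunLike.congr_fun (congrArg Multiplicative.toAdd hg) u
  have hnil : ∀ E : Subgroup L, ¬ Group.IsNilpotent (E.map (DistribMulAction.toAddAut L U)) →
      ¬ Group.IsNilpotent E := by
    intro E h1 h2
    apply h1
    have e := E.equivMapOfInjective _ hinj
    exact Group.nilpotent_of_mulEquiv e
  have hTm : ∀ p ∈ T, p.Prime ∧ p ∣ Nat.card H ∧ Good p n ∧ ∃ P : Sylow p L,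
    ¬ Group.IsNilpotent ((⁅M, (P : Subgroup L)⁆).map (DistribMulAction.toAddAut L U)) := by
    intro p hp
    obtain ⟨h1, h2⟩ := Finset.mem_filter.1 hp
    exact ⟨Nat.prime_of_mem_primeFactors h1, Nat.dvd_of_mem_primeFactors h1, h2⟩
  obtain ⟨u, hu⟩ := exists_avoid (U := U) T (fun p hp => (hTm p hp).1.one_lt.le)
    (fun p => {u : U | ¬ p ∣ (MulAction.stabilizer L u).index}) (by
      intro p hp
      obtain ⟨h1, h2, h3, P, h4⟩ := hTm p hp
      exact bad_bound D hSq hPow hNumer hNot hRel hDim hD M H r n hS hr hrU hrH hM hrn h1 h2 h3 P (hnil _ h4))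
  rcases T.eq_empty_or_nonempty with hTe | ⟨p0, hp0⟩
  · obtain ⟨v, hv⟩ := exists_ne (0 : U)
    refine ⟨v, hv, fun p hp hpH hgood P hP => ?_⟩
    have : p ∈ T := Finset.mem_filter.2 ⟨Nat.mem_primeFactors.2 ⟨hp, hpH, (Nat.card_pos).ne'⟩, hgood, P, hP⟩
    rw [hTe] at this
    simp at this
  · refine ⟨u, ?_, fun p hp hpH hgood P hP => ?_⟩
    · rintro rfl
      have h1 := hu p0 hp0
      apply h1
      change ¬ p0 ∣ (MulAction.stabilizer L (0 : U)).index
      have : MulAction.stabilizer L (0 : U) = ⊤ := by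
        rw [eq_top_iff]
        intro g _
        rw [MulAction.mem_stabilizer_iff, smul_zero]
      rw [this, Subgroup.index_top]
      intro h2
      exact (hTm p0 hp0).1.one_lt.ne' (Nat.dvd_one.1 h2)
    · have hpT : p ∈ T := Finset.mem_filter.2 ⟨Nat.mem_primeFactors.2 ⟨hp, hpH, (Nat.card_pos).ne'⟩, hgood, P, hP⟩
      by_contra hcon
      exact hu p hpT hcon

end Cfsg.Agent.H822.Cls
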